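import Cfsg.Agent.U20.Mod
import Cfsg.Agent.Spor.BulkNet

/-! Subsets of the module as bit masks. -/

set_option autoImplicit false

namespace Cfsg.Lib.U20

open Matrix Cfsg.Lib.Spor Cfsg.Lib.Spor.Bulk

/-- Evaluate first. -/
noncomputable def frc {α : Type} (x : ℕ) (k : ℕ → α) : α :=
  Nat.rec (k 0) (fun n _ => k n) (Nat.succ x)

theorem frc_eq {α : Type} (x : ℕ) (k : ℕ → α) : frc x k = k x := rfl

/-- List lookup. -/
noncomputable def nt (L : List ℕ) : ℕ → ℕ :=
  List.rec (fun _ => 0) (fun a _ ih j => Nat.rec a (fun j' _ => ih j') j) L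

theorem nt_eq (L : List ℕ) (j : ℕ) : nt L j = L.getD j 0 := by
  induction L generalizing j with
  | nil => rfl
  | cons a L ih => cases j with
    | zero => rfl
    | succ j => exact ih j

/-- The table of bit planes. -/
noncomputable def TB : List ℕ := (List.range 20).map (idPlane 20) ++ [ones 1048576]

/-- Building the table. -/
noncomputable def tabK (k : List ℕ → Bool) (n : ℕ) : List ℕ → Bool :=
  Nat.rec k (fun j ih acc => frc (idPlane 20 j) fun p => ih (p :: acc)) n

theorem tabK_eq (k : List ℕ → Bool) (n : ℕ) (acc : List ℕ) :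
    tabK k n acc = k ((List.range n).map (idPlane 20) ++ acc) := by
  induction n generalizing acc with
  | zero => rfl
  | succ n ih =>
    rw [List.range_succ, List.map_append, List.append_assoc]
    exact ih _

/-- Run with the table. -/
noncomputable def wt (k : List ℕ → Bool) : Bool := frc (ones 1048576) fun o => tabK k 20 [o]

theorem wt_eq (k : List ℕ → Bool) : wt k = k TB := by
  rw [wt, frc_eq, tabK_eq, TB]

theorem tb_TB {j p : ℕ} (hj : j ≤ 20) :
    (nt TB j).testBit p = (decide (p < 2 ^ 20) && (p ||| 2 ^ 20).testBit j) := by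
  rw [nt_eq, TB, Nat.testBit_or]
  rcases hj.eq_or_lt with rfl | hj
  · rw [List.getD_append_right _ _ _ _ (by simp), Nat.testBit_two_pow_self]
    simp [testBit_ones]
  · rw [List.getD_append _ _ _ _ (by simpa using hj), List.getD_eq_getElem _ _ (by simpa using hj),
      List.getElem_map, List.getElem_range, testBit_idPlane _ _ _ hj,
      Nat.testBit_two_pow_of_ne (by omega), Bool.or_false]

/-- One elementary operation on a point. -/
def a1 (i j n : ℕ) : ℕ := Bool.rec n (Nat.xor n (Nat.shiftLeft 1 i)) (Nat.testBit (Nat.lor n 1048576) j)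

theorem a1_eq (i j n : ℕ) : a1 i j n = if (n ||| 2 ^ 20).testBit j then n ^^^ 2 ^ i else n := by
  unfold a1
  rw [← Nat.one_shiftLeft i]
  show Bool.rec (motive := fun _ => ℕ) n (n ^^^ 1 <<< i) ((n ||| 2 ^ 20).testBit j) = _
  cases (n ||| 2 ^ 20).testBit j <;> rfl

theorem a1_lt {i j n : ℕ} (hi : i < 20) (hn : n < 2 ^ 20) : a1 i j n < 2 ^ 20 := by
  rw [a1_eq]; split_ifs
  · exact Nat.xor_lt_two_pow hn (Nat.pow_lt_pow_right (by norm_num) hi)
  · exact hn

/-- One elementary operation on a set. -/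
noncomputable def s1 (T : List ℕ) (i j S : ℕ) : ℕ :=
  frc (Nat.land (nt T j) (Nat.xor (nt T i) (nt T 20))) fun m => stage (Nat.shiftLeft 1 i) m S

theorem xor_pow_of_not {p i : ℕ} (h : p.testBit i = false) : p ^^^ 2 ^ i = p + 2 ^ i := by
  rw [Nat.add_comm]
  refine Nat.eq_of_testBit_eq fun k => ?_
  rw [Nat.testBit_xor, Nat.testBit_two_pow]
  rcases lt_trichotomy k i with h1 | rfl | h1
  · rw [Nat.testBit_two_pow_add_gt h1]; simp [h1.ne']
  · rw [Nat.testBit_two_pow_add_eq]; simp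
  · obtain ⟨d, rfl⟩ := Nat.exists_eq_add_of_lt h1
    have e : (2 ^ i + p) / 2 ^ (i + 1) = p / 2 ^ (i + 1) := by
      rw [Nat.testBit_eq_decide_div_mod_eq] at h
      rw [pow_succ, ← Nat.div_div_eq_div_mul, ← Nat.div_div_eq_div_mul,
        Nat.add_div_left _ (by positivity)]
      simp at h; omega
    rw [decide_eq_false h1.ne, Bool.xor_false, show i + d + 1 = d + (i + 1) by omega,
      ← Nat.testBit_div_two_pow, ← Nat.testBit_div_two_pow, e]

theorem tb_s1 {i j p : ℕ} (S : ℕ) (hi : i < 20) (hj : j ≤ 20) (hij : i ≠ j) (hp : p < 2 ^ 20) :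
    (s1 TB i j S).testBit p = S.testBit (a1 i j p) := by
  have hm : ∀ q, (nt TB j &&& (nt TB i ^^^ nt TB 20)).testBit q =
      (decide (q < 2 ^ 20) && (q ||| 2 ^ 20).testBit j && !q.testBit i) := fun q => by
    rw [Nat.testBit_and, Nat.testBit_xor, tb_TB hj, tb_TB hi.le, tb_TB le_rfl, Nat.testBit_or q _ i,
      Nat.testBit_or q _ 20, Nat.testBit_two_pow_self, Nat.testBit_two_pow_of_ne (n := 20) (by omega)]
    rw [Bool.or_true]
    cases decide (q < 2 ^ 20) <;> cases (q ||| 2 ^ 20).testBit j <;> cases q.testBit i <;> rfl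
  have hb : ∀ q, q.testBit i = false → (q + 2 ^ i).testBit i = true ∧
      (q + 2 ^ i ||| 2 ^ 20).testBit j = (q ||| 2 ^ 20).testBit j := fun q hq => by
    rw [← xor_pow_of_not hq]
    simp [Nat.testBit_xor, hq, Nat.testBit_two_pow_of_ne hij]
  show (stage (1 <<< i) (nt TB j &&& (nt TB i ^^^ nt TB 20)) S).testBit p = _
  rw [Nat.one_shiftLeft, testBit_stage, sw, a1_eq, hm, hm]
  · congr 1
    cases h1 : p.testBit i
    · by_cases h2 : (p ||| 2 ^ 20).testBit j = true
      · simp only [hp, h2, xor_pow_of_not h1]; simp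
      · rw [if_neg h2, if_neg (by simp only [h2]; simp), if_neg]
        rintro ⟨h3, h4⟩
        simp only [Bool.and_eq_true, Bool.not_eq_true'] at h4
        have := (hb _ h4.2).1
        rw [Nat.sub_add_cancel h3, h1] at this
        exact Bool.noConfusion this
    · have h3 : (p ^^^ 2 ^ i).testBit i = false := by simp [h1]
      have h4 : p = (p ^^^ 2 ^ i) + 2 ^ i := by
        rw [← xor_pow_of_not h3, Nat.xor_assoc, Nat.xor_self, Nat.xor_zero]
      have h5 : p - 2 ^ i = p ^^^ 2 ^ i := by omega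
      have h6 := (hb _ h3).2
      rw [← h4] at h6
      rw [if_neg (by simp), h5, ← h6, h3]
      have h7 : p ^^^ 2 ^ i < 2 ^ 20 := h5 ▸ (Nat.sub_le _ _).trans_lt hp
      have h8 : 2 ^ i ≤ p := by omega
      simp only [h7, h8]; simp
  · refine Nat.eq_of_testBit_eq fun q => ?_
    rw [Nat.testBit_and, Nat.testBit_shiftLeft, hm, hm, Nat.zero_testBit]
    by_cases h3 : 2 ^ i ≤ q
    · cases h4 : (q - 2 ^ i).testBit i
      · have := (hb _ h4).1
        rw [Nat.sub_add_cancel h3] at this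
        simp [this]
      · simp
    · simp [h3]

/-- A coded product of elementary operations on a point. -/
def apN (l : ℕ) : ℕ → ℕ → ℕ :=
  Nat.rec (fun _ n => n) (fun _ ih c n =>
    a1 (Nat.land c 31) (Nat.land (Nat.shiftRight c 5) 31) (ih (Nat.shiftRight c 10) n)) l

/-- The same on a set. -/
noncomputable def puN (T : List ℕ) (l : ℕ) : ℕ → ℕ → ℕ :=
  Nat.rec (fun _ S => S) (fun _ ih c S => frc (Nat.shiftRight c 10) fun c' =>
    frc (s1 T (Nat.land c 31) (Nat.land (Nat.shiftRight c 5) 31) S) fun S' => ih c' S') l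

/-- Validity of a code of a linear map. -/
def okN (l : ℕ) : ℕ → Bool :=
  Nat.rec (fun _ => true) (fun _ ih c => Nat.blt (Nat.land c 31) 20 &&
    (Nat.blt (Nat.land (Nat.shiftRight c 5) 31) 20 &&
    (!Nat.beq (Nat.land c 31) (Nat.land (Nat.shiftRight c 5) 31) && ih (Nat.shiftRight c 10)))) l

theorem okN_succ {l c : ℕ} (h : okN (l + 1) c = true) : Nat.land c 31 < 20 ∧
    Nat.land (Nat.shiftRight c 5) 31 < 20 ∧ Nat.land c 31 ≠ Nat.land (Nat.shiftRight c 5) 31 ∧
    okN l (Nat.shiftRight c 10) = true := by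
  have : (Nat.blt (Nat.land c 31) 20 && (Nat.blt (Nat.land (Nat.shiftRight c 5) 31) 20 &&
    (!Nat.beq (Nat.land c 31) (Nat.land (Nat.shiftRight c 5) 31) &&
      okN l (Nat.shiftRight c 10)))) = true := h
  simp only [Bool.and_eq_true, Nat.blt_eq, Bool.not_eq_true'] at this
  exact ⟨this.1, this.2.1, Nat.ne_of_beq_eq_false this.2.2.1, this.2.2.2⟩

theorem apN_lt : ∀ {l c : ℕ}, okN l c = true → ∀ {n : ℕ}, n < 2 ^ 20 → apN l c n < 2 ^ 20
  | 0, _, _, _, hn => hn
  | _ + 1, _, h, _, hn => a1_lt (okN_succ h).1 (apN_lt (okN_succ h).2.2.2 hn)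

theorem tb_puN : ∀ {l c : ℕ}, okN l c = true → ∀ (S : ℕ) {n : ℕ}, n < 2 ^ 20 →
    (puN TB l c S).testBit n = S.testBit (apN l c n)
  | 0, _, _, _, _, _ => rfl
  | _ + 1, _, h, S, _, hn => by
    obtain ⟨h1, h2, h3, h4⟩ := okN_succ h
    exact (tb_puN h4 _ hn).trans (tb_s1 S h1 h2.le h3 (apN_lt h4 hn))

theorem a1_xor {j : ℕ} (hj : j < 20) (i a b : ℕ) : a1 i j (a ^^^ b) = a1 i j a ^^^ a1 i j b := by
  simp only [a1_eq, Nat.testBit_or, Nat.testBit_xor, Nat.testBit_two_pow_of_ne (n := 20) (m := j)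
    (by omega), Bool.or_false]
  cases a.testBit j <;> cases b.testBit j <;>
    simp [Nat.xor_assoc, Nat.xor_comm, Nat.xor_left_comm]

theorem apN_xor : ∀ {l c : ℕ}, okN l c = true → ∀ a b : ℕ,
    apN l c (a ^^^ b) = apN l c a ^^^ apN l c b
  | 0, _, _, _, _ => rfl
  | _ + 1, _, h, a, b => by
    obtain ⟨-, h2, -, h4⟩ := okN_succ h
    exact (congrArg _ (apN_xor h4 a b)).trans (a1_xor h2 _ _ _)

/-- The map of a code. -/
def ap (c n : ℕ) : ℕ := apN (Nat.land c 1023) (Nat.shiftRight c 10) n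

/-- The preimage under the map of a code. -/
noncomputable def pu (T : List ℕ) (c S : ℕ) : ℕ := puN T (Nat.land c 1023) (Nat.shiftRight c 10) S

/-- Validity. -/
def ok (c : ℕ) : Bool := okN (Nat.land c 1023) (Nat.shiftRight c 10)

/-- Translation of a set. -/
noncomputable def trN (T : List ℕ) (a S l : ℕ) : ℕ :=
  Nat.rec S (fun i r => Bool.rec r (frc r fun r' => s1 T i 20 r') (Nat.testBit a i)) l

theorem tb_trN (a S : ℕ) : ∀ {l : ℕ}, l ≤ 20 → ∀ {n : ℕ}, n < 2 ^ 20 →
    (trN TB a S l).testBit n = S.testBit (n ^^^ a % 2 ^ l)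
  | 0, _, n, _ => by rw [pow_zero, Nat.mod_one, Nat.xor_zero]; rfl
  | l + 1, h, n, hn => by
    have e : a % 2 ^ (l + 1) = if a.testBit l then 2 ^ l ^^^ a % 2 ^ l else a % 2 ^ l := by
      refine Nat.eq_of_testBit_eq fun k => ?_
      split_ifs with h1 <;>
        simp only [Nat.testBit_xor, Nat.testBit_mod_two_pow, Nat.testBit_two_pow] <;>
        rcases lt_trichotomy k l with h2 | rfl | h2
      · simp [h2, h2.ne', h2.trans (Nat.lt_succ_self l)]
      · simp [h1]
      · simp [h2.ne, h2.le.not_gt, Nat.not_lt.2 (Nat.succ_le_of_lt h2)]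
      · simp [h2, h2.trans (Nat.lt_succ_self l)]
      · simp [h1]
      · simp [h2.le.not_gt, Nat.not_lt.2 (Nat.succ_le_of_lt h2)]
    show (Bool.rec (motive := fun _ => ℕ) (trN TB a S l) (s1 TB l 20 (trN TB a S l))
      (a.testBit l)).testBit n = _
    rw [e]
    cases a.testBit l
    · exact tb_trN a S (by omega) hn
    · have h2 : a1 l 20 n = n ^^^ 2 ^ l := by
        rw [a1_eq, Nat.testBit_or, Nat.testBit_two_pow_self, Bool.or_true, if_pos rfl]
      refine (tb_s1 _ (by omega) le_rfl (by omega) hn).trans ?_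
      rw [tb_trN a S (by omega) (a1_lt (by omega) hn), h2, Nat.xor_assoc]
      rfl

/-- All members of the set have the property. -/
def Sat (S : ℕ) (P : ℕ → Prop) : Prop := ∀ n < 2 ^ 20, S.testBit n = true → P n

/-- Closing under translations. -/
noncomputable def rT (T L : List ℕ) : ℕ → ℕ :=
  List.rec (fun S => S) (fun a _ ih S => frc (Nat.lor S (trN T a S 20)) ih) L

/-- Closing under linear maps. -/
noncomputable def rL (T G L : List ℕ) : ℕ → ℕ :=
  List.rec (fun S => S) (fun a _ ih S => frc (Nat.lor S (pu T (nt G a) S)) ih) L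

theorem Sat.rT {P : ℕ → Prop} : ∀ {L : List ℕ} {S : ℕ}, Sat S P →
    (∀ a ∈ L, ∀ n < 2 ^ 20, P (n ^^^ a % 2 ^ 20) → P n) → Sat (rT TB L S) P
  | [], _, h, _ => h
  | a :: L, S, h, k => Sat.rT (L := L) (S := S ||| trN TB a S 20) (fun n hn e => by
      rw [Nat.testBit_or, Bool.or_eq_true, tb_trN _ _ le_rfl hn] at e
      exact e.elim (h n hn) fun e => k a List.mem_cons_self n hn
        (h _ (Nat.xor_lt_two_pow hn (Nat.mod_lt _ (by norm_num))) e))
      fun b hb => k b (List.mem_cons_of_mem _ hb)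

theorem Sat.rL {P : ℕ → Prop} {G : List ℕ} : ∀ {L : List ℕ} {S : ℕ}, Sat S P →
    (∀ a ∈ L, ok (nt G a) = true ∧ ∀ n < 2 ^ 20, P (ap (nt G a) n) → P n) → Sat (rL TB G L S) P
  | [], _, h, _ => h
  | a :: L, S, h, k => Sat.rL (L := L) (S := S ||| pu TB (nt G a) S) (fun n hn e => by
      have k1 := k a List.mem_cons_self
      rw [Nat.testBit_or, Bool.or_eq_true, pu, tb_puN k1.1 _ hn] at e
      exact e.elim (h n hn) fun e => k1.2 n hn (h _ (apN_lt k1.1 hn) e))
      fun b hb => k b (List.mem_cons_of_mem _ hb)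

theorem Sat.lor {P : ℕ → Prop} {S S' : ℕ} (h : Sat S P) (h' : Sat S' P) : Sat (Nat.lor S S') P :=
  fun n hn e => by
    have : (S ||| S').testBit n = true := e
    rw [Nat.testBit_or, Bool.or_eq_true] at this
    exact this.elim (h n hn) (h' n hn)

theorem Sat.pt {P : ℕ → Prop} {a : ℕ} (h : P a) : Sat (Nat.shiftLeft 1 a) P := fun n _ e => by
  have : (1 <<< a).testBit n = true := e
  rw [Nat.one_shiftLeft, Nat.testBit_two_pow] at this
  exact of_decide_eq_true this ▸ h

theorem Sat.mono {P P' : ℕ → Prop} {S : ℕ} (h : Sat S P) (k : ∀ n < 2 ^ 20, P n → P' n) :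
    Sat S P' := fun n hn e => k n hn (h n hn e)

/-- The points that are not fixed. -/
noncomputable def nfx (T : List ℕ) (c l : ℕ) : ℕ :=
  Nat.rec 0 (fun i r => frc r fun r' => Nat.lor r' (Nat.xor (pu T c (nt T i)) (nt T i))) l

theorem sat_nfx {c : ℕ} (hc : ok c = true) : ∀ {l : ℕ}, l ≤ 20 → Sat (nfx TB c l) fun n => ap c n ≠ n
  | 0, _ => fun _ _ e => by simp [nfx] at e
  | l + 1, h => Sat.lor (sat_nfx hc (l := l) (by omega)) fun n hn e e' => by
    have : (pu TB c (nt TB l) ^^^ nt TB l).testBit n = true := e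
    rw [Nat.testBit_xor, pu, tb_puN hc _ hn] at this
    rw [show apN _ _ n = n from e'] at this
    simp at this

theorem Sat.all {P : ℕ → Prop} {S : ℕ} (h : Sat S P) (e : Nat.beq S (nt TB 20) = true) :
    ∀ n < 2 ^ 20, P n := fun n hn => h n hn (by
  rw [Nat.eq_of_beq_eq_true e, tb_TB le_rfl, Nat.testBit_or, Nat.testBit_two_pow_self]
  simp only [hn]; simp)

theorem Sat.fix {P : ℕ → Prop} {S c : ℕ} (h : Sat S P) (hc : ok c = true)
    (e : Nat.beq (Nat.lor S (nfx TB c 20)) (nt TB 20) = true) :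
    ∀ n < 2 ^ 20, ap c n = n → P n :=
  Sat.all (Sat.lor (h.mono fun _ _ a _ => a)
    ((sat_nfx hc le_rfl).mono fun _ _ a b => absurd b a)) e

/-- Decoding. -/
def dec (n : ℕ) : MM := fun i => GF4.ofN (Nat.shiftRight n (Nat.mul 2 i.val))

theorem dec_xor (a b : ℕ) : dec (a ^^^ b) = dec a + dec b := by
  funext i
  refine GF4.val_injective ?_
  rw [Pi.add_apply, GF4.val_add]
  show ((a ^^^ b) >>> (2 * i.val)) % 2 ^ 2 = (a >>> (2 * i.val)) % 2 ^ 2 ^^^ (b >>> (2 * i.val)) % 2 ^ 2
  rw [Nat.shiftRight_xor_distrib, Nat.xor_mod_two_pow]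

theorem dec_zero : dec 0 = 0 := by decide

theorem exists_dec (w : MM) : ∃ n < 2 ^ 20, dec n = w := by
  let b : Fin 10 → Fin 4 := w
  refine ⟨finFunctionFinEquiv b, Fin.is_lt _, funext fun i => ?_⟩
  have := finFunctionFinEquiv_symm_apply_val (finFunctionFinEquiv b) i
  rw [Equiv.symm_apply_apply] at this
  refine GF4.val_injective ?_
  show (_ >>> (2 * i.val)) % 4 = (b i).val
  rw [this, Nat.shiftRight_eq_div_pow, pow_mul]
  rfl

theorem dec_inj {a b : ℕ} (ha : a < 2 ^ 20) (hb : b < 2 ^ 20) (e : dec a = dec b) : a = b := by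
  refine Nat.eq_of_testBit_eq fun k => ?_
  by_cases hk : k < 20
  · have h1 : (a >>> (2 * (k / 2))) % 2 ^ 2 = (b >>> (2 * (k / 2))) % 2 ^ 2 :=
      congrArg GF4.val (congrFun e ⟨k / 2, by omega⟩)
    have := congrArg (fun x => Nat.testBit x (k % 2)) h1
    simp only [Nat.testBit_mod_two_pow, Nat.testBit_shiftRight, Nat.div_add_mod,
      Nat.mod_lt k (show 0 < 2 by norm_num), decide_true, Bool.true_and] at this
    exact this
  · have : ∀ {x}, x < 2 ^ 20 → x.testBit k = false := fun h =>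
      Nat.testBit_lt_two_pow (h.trans_le (Nat.pow_le_pow_right (by norm_num) (by omega)))
    rw [this ha, this hb]

theorem xor_ind {P : ℕ → Prop} (h0 : P 0) (hx : ∀ a b, P a → P b → P (a ^^^ b)) :
    ∀ {l : ℕ}, (∀ k < l, P (2 ^ k)) → ∀ n < 2 ^ l, P n
  | 0, _, n, hn => by rwa [show n = 0 by omega]
  | l + 1, h, n, hn => by
    have ih := xor_ind h0 hx (l := l) fun k hk => h k (by omega)
    by_cases h1 : n < 2 ^ l
    · exact ih n h1
    · have h2 : n - 2 ^ l < 2 ^ l := by omega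
      have := hx _ _ (ih _ h2) (h l (by omega))
      rwa [xor_pow_of_not (Nat.testBit_lt_two_pow h2), Nat.sub_add_cancel (by omega)] at this

end Cfsg.Lib.U20
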