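import Cfsg.Agent.U20.Kit

/-! Finite facts on the module of dimension twenty. -/

set_option autoImplicit false
set_option maxRecDepth 100000
set_option Elab.async false

namespace Cfsg.Lib.U20

open Matrix Cfsg.Lib.Spor

/-- A matrix. -/
def mA0 : ℕ :=
  0x4001000c0030008002

/-- Its code. -/
def cA0 : ℕ :=
  0x2539c928424e631ca421443188010800c

theorem suA0 : SUn (mat mA0) := sun_of (by decide +kernel)

theorem liA0 : Lin (mat mA0) false cA0 := lin_of suA0.2 (by decide +kernel) (by decide +kernel)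

theorem o3A0 : O3 (mat mA0) := o3_of suA0 liA0 1 (by decide +kernel)

/-- A matrix. -/
def mA1 : ℕ :=
  0xca30f02af73594c0f

/-- Its code. -/
def cA1 : ℕ :=
  0x2729c66f9b66c9ae6a9a661982539465093e4e9364b922418ca2b8aa258821384a1183e0e8320b82a09822068160380a017cdf27c5f07b5ec7a1e678a0f745d073dcd731c871dc47b9b36c5ae69da5691a073593649906398d62d8a6258860d82601ac5c9715b56a59d6659163585ab54d5153d4e5314b525485194450d42505405a9304ad2a4a127491234892052513449104390641503720f23c4ef3b8ed3acea3a4e5388e0348d033cce330ca320c7314c4308c0398b32c0a4284a081493248912408d21c86204c41cc6f1846078c5213c4e12c4a11040208330c82d0b02a0a02609423184120300b0240801c0501002100c2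

theorem suA1 : SUn (mat mA1) := sun_of (by decide +kernel)

theorem liA1 : Lin (mat mA1) false cA1 := lin_of suA1.2 (by decide +kernel) (by decide +kernel)

/-- A matrix. -/
def mA2 : ℕ :=
  0x1bd05c1245bcecb6f1

/-- Its code. -/
def cA2 : ℕ :=
  0x9ca719c26f9ba6c9ae6999e639866094e519324b91e4590e429ca338ca308ba2d8b22b8a6268820c82e0981e0681202801f37c1ee7a9e8791e3789e17820f749cf729c871dee6cdb26c1ae6b1aa6a5a869da6695a468d926358a621805c9715a9698ad525414d5314b525465114350941501334ad284956944d124450f4350c4290941d0641102405283bcea390e23814734cd0334cc324c831cc530cc1300e62a8a9290a3494932489023c8e2348c22c892208720c82204e41cc701bc6e1b46c1ac641886118052128491204611443188330c4300bc2e0b42c09c250902210413044100380d02c0902006300bd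

theorem suA2 : SUn (mat mA2) := sun_of (by decide +kernel)

theorem liA2 : Lin (mat mA2) false cA2 := lin_of suA2.2 (by decide +kernel) (by decide +kernel)

theorem fixA (w : MM) : ∃ s, O3 s ∧ act s w = w := by
  obtain ⟨n, hn, rfl⟩ := exists_dec w
  exact Sat.all (liA1.two liA2 (fun w => ∃ s, O3 s ∧ act s w = w) (fun _ => fix_conj suA1)
    (fun _ => fix_conj suA2) [0, 1, 0, 1, 0, 1, 0, 1, 0, 1, 0, 1, 0, 1, 0, 1, 0, 1, 0, 1, 0, 1, 0, 1, 0] (by decide)
      ((sat_fix liA0 [1024, 2048, 4096, 8192, 16384, 32768, 65536, 131072] (by decide +kernel)).mono fun _ _ h => ⟨_, o3A0, h⟩))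
    ((wt_eq fun T => Nat.beq (rL T [cA1, cA2] [0, 1, 0, 1, 0, 1, 0, 1, 0, 1, 0, 1, 0, 1, 0, 1, 0, 1, 0, 1, 0, 1, 0, 1, 0]
      (rT T [1024, 2048, 4096, 8192, 16384, 32768, 65536, 131072] (Nat.shiftLeft 1 0))) (nt T 20)).symm.trans (by decide +kernel)) n hn

/-- Code of an involution. -/
def x01 : ℕ :=
  0x9ca699a2488c22b8aa0a7b9ed7b1cc6bdac7b58e731715aa2b5420a4cd289a5129201b

theorem lx01 : Lin (pm 1) false x01 := lin_of (su_pm 1).2 (by decide +kernel) (by decide +kernel)

/-- A matrix. -/
def mT01 : ℕ :=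
  0xc001000c002000c003

/-- Its code. -/
def cT01 : ℕ :=
  0x2539c9cf7b9ac6352842485290200040c

theorem suT01 : SUn (mat mT01) := sun_of (by decide +kernel)

theorem liT01 : Lin (mat mT01) false cT01 := lin_of suT01.2 (by decide +kernel) (by decide +kernel)

theorem o3T01 : O3 (mat mT01) := o3_of suT01 liT01 1 (by decide +kernel)

theorem ceT01 : Cen (pm 1) false (mat mT01) := by decide +kernel

/-- A matrix. -/
def mC01 : ℕ :=
  0xb8f63047f270aa8aa2

/-- Its code. -/
def cC01 : ℕ :=
  0x2719c26e9ae699a26699262982539464f9324b91e459124390a419ca338ca308be2e8b22a8a627896238865184a0d8320a822078160480e02806507cdf27b5ec7a5e7799e5791e37864f745cf731cb729c9719c07b9b36c5b06b1aa6a5a8691a064d8f6398d62d89619805cd725c56d5b16a59d65591635856062d535494f5394d52d4951d4550d42505405a9314c12e4b12b49d264952448d2144d114390d4290641102401483c4f03ace438cd132cca314c4308b32c8b12c0af2b8ad2aca928ca224c9123c8d2308b22889220831cc721c06f1b86d1a86919c6619462180a3148511384c12c4a1204611444104820c02a0942408c22048110400e0300b0200500c01080d0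

theorem suC01 : SUn (mat mC01) := sun_of (by decide +kernel)

theorem liC01 : Lin (mat mC01) false cC01 := lin_of suC01.2 (by decide +kernel) (by decide +kernel)

/-- A matrix. -/
def mD01 : ℕ :=
  0xe35ec535a8af758752

/-- Its code. -/
def cD01 : ℕ :=
  0x9be6e9b66a9966294e4f93a4d92e4590a728ca2f8ba2d8ae2a8a626896228825184e0f8320b8260881e0681203806707c5ee7adea749d1741cf729c9719c56c5ab6a9926418d62d89609806b1735bd6e5b16759163585605495052d4952145509334c12e4b52b4a1274992448d215a513449114410f4390c429074150440d0240500520f33c4f03b8ec3ace93a0e5390e1348d133ccd330cb328c831cc5300e62ccb22c4b02bcae2b4ab2a4a7290a3288a1280932449023c8e2348b22488218711bc6d1b06b1a866190621846020c4711440288330c02f0b82d0a8290a027098220481103c0d0300b0280801c03008bf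

theorem suD01 : SUn (mat mD01) := sun_of (by decide +kernel)

theorem liD01 : Lin (mat mD01) false cD01 := lin_of suD01.2 (by decide +kernel) (by decide +kernel)

theorem ceC01 : Cen (pm 1) false (mat mC01) := by decide +kernel

theorem ceD01 : Cen (pm 1) false (mat mD01) := by decide +kernel

theorem good01 (w : MM) (h : XX (pm 1) false w = w) : Good (pm 1) false w :=
  lx01.fin (liC01.two liD01 (Good (pm 1) false)
    (fun _ => Good.conj (su_pm 1).1 suC01 ceC01) (fun _ => Good.conj (su_pm 1).1 suD01 ceD01)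
    [0, 1, 0, 1, 0, 1, 0, 0] (by decide) (lx01.tr (fun _ _ => Good.tr) [262400, 786944, 66560, 198656, 20480, 57344] (by decide +kernel)
      ((sat_fix liT01 [4, 8, 64, 128, 66560, 198656] (by decide +kernel)).mono fun _ _ => Good.of o3T01 ceT01)))
    ((wt_eq fun T => Nat.beq (Nat.lor (rL T [cC01, cD01] [0, 1, 0, 1, 0, 1, 0, 0] (rT T [262400, 786944, 66560, 198656, 20480, 57344]
      (rT T [4, 8, 64, 128, 66560, 198656] (Nat.shiftLeft 1 0)))) (nfx T x01 20)) (nt T 20)).symm.trans (by decide +kernel)) w h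

/-- Code of an involution. -/
def x02 : ℕ :=
  0x9ca699a2488c22f8ba0e7c5ee8bdd0839ac6adaa6296d5a9ab5318a4cd289a51292061100231840210021

theorem lx02 : Lin (pm 2) false x02 := lin_of (su_pm 2).2 (by decide +kernel) (by decide +kernel)

/-- A matrix. -/
def mT02 : ℕ :=
  0x8003000c0030008002

/-- Its code. -/
def cT02 : ℕ :=
  0x2539ca118c1ee73d8d6b16a52d2842485290431880108012

theorem suT02 : SUn (mat mT02) := sun_of (by decide +kernel)

theorem liT02 : Lin (mat mT02) false cT02 := lin_of suT02.2 (by decide +kernel) (by decide +kernel)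

theorem o3T02 : O3 (mat mT02) := o3_of suT02 liT02 1 (by decide +kernel)

theorem ceT02 : Cen (pm 2) false (mat mT02) := by decide +kernel

/-- A matrix. -/
def mC02 : ℕ :=
  0x1a040029f26f0a80a2

/-- Its code. -/
def cC02 : ℕ :=
  0x9c26c98e629866094e519424d93242902728c22f8ba2d8b22a8a22789a2588a2083e0c82e0a8260881a0480e02806007c9ed7a1e6791e2781d3749d1731cb725c7719c570dc16c9b16bdab6a1a6691a2681ed64d92645906398b6298961d8661583605cc5c56f5b16a5a5675956458d61545505394d525485194450d42505404c12c4a123489214811143509409003c0ee3b0ea398e5390e3384c7310c3308c1300b12c0af2b4ac2aca7290a3284e52408e2308a21c8620c8220480310731c46f1b86d1ac6a1a46819862184521445013c4d1304b1204710c41100320c4300bc2d0b02b0a027088130440f0380d02c0a0240801803008c5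

theorem suC02 : SUn (mat mC02) := sun_of (by decide +kernel)

theorem liC02 : Lin (mat mC02) false cC02 := lin_of suC02.2 (by decide +kernel) (by decide +kernel)

/-- A matrix. -/
def mD02 : ℕ :=
  0x30a45f4e54b55a35ac

/-- Its code. -/
def cD02 : ℕ :=
  0x9ca719c26f9ba6d9b26a9a2669966398a6094e4f9324991e4490e42902728ca2d8a6268922388a218825184a1183a0d8320981e0680e307c9f17b5eb7a9e979de67862f74dca721c7715c3709c17026e6cdb16bdac6a9a6695a2685a064991625888b1725c56f5a96659563589607ad525455053d4d5314951d4550d42505404cd324c5304b52c4a12749925491234858944d0f4390b429074150340901401483c8e8394e438ce134cd2340ce330ca324c7314c2300e62ccb12c0af2b4ac2aca92a0a7394922448f2388d22c8a22086310731c8711c06e1b06b1a4651886114c521445013c4d1304b1244511043104400cc320c02e0b02a0a4250902204c120400f0340c0280901403008d5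

theorem suD02 : SUn (mat mD02) := sun_of (by decide +kernel)

theorem liD02 : Lin (mat mD02) false cD02 := lin_of suD02.2 (by decide +kernel) (by decide +kernel)

theorem ceC02 : Cen (pm 2) false (mat mC02) := by decide +kernel

theorem ceD02 : Cen (pm 2) false (mat mD02) := by decide +kernel

theorem good02 (w : MM) (h : XX (pm 2) false w = w) :
    Good (pm 2) false w ∨ Orb (pm 2) (dec 80) w :=
  lx02.fin (P := fun w => Good (pm 2) false w ∨ Orb (pm 2) (dec 80) w)
    (liC02.two liD02 (fun w => Good (pm 2) false w ∨ Orb (pm 2) (dec 80) w)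
    (fun _ => Or.imp (Good.conj (su_pm 2).1 suC02 ceC02) (Orb.conj (su_pm 2).1 suC02 ceC02))
    (fun _ => Or.imp (Good.conj (su_pm 2).1 suD02 ceD02) (Orb.conj (su_pm 2).1 suD02 ceD02))
    [0, 1, 0, 1] (by decide)
    (lx02.tr (P := fun w => Good (pm 2) false w ∨ Orb (pm 2) (dec 80) w)
      (fun _ _ => Or.imp Good.tr Orb.tr) [5, 10, 262400, 786944, 5120, 14336, 81920, 229376] (by decide +kernel)
      (Sat.lor ((sat_fix liT02 [64, 128] (by decide +kernel)).mono
        fun _ _ h => Or.inl (Good.of o3T02 ceT02 h)) (Sat.pt (a := 80) (Or.inr Orb.self)))))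
    ((wt_eq fun T => Nat.beq (Nat.lor (rL T [cC02, cD02] [0, 1, 0, 1] (rT T [5, 10, 262400, 786944, 5120, 14336, 81920, 229376]
      (Nat.lor (rT T [64, 128] (Nat.shiftLeft 1 0)) (Nat.shiftLeft 1 80)))) (nfx T x02 20))
      (nt T 20)).symm.trans (by decide +kernel)) w h

theorem fix_bad : XX (pm 2) false (dec 80) = dec 80 :=
  (lx02.2 80 (by norm_num)).symm.trans (by decide +kernel)

/-- Code of an involution. -/
def x03 : ℕ :=
  0x9ca699a2488c1ee6b16a4cd289a512920e5310a73948631061100231840210019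

theorem lx03 : Lin (pm 3) false x03 := lin_of (su_pm 3).2 (by decide +kernel) (by decide +kernel)

/-- A matrix. -/
def mT03 : ℕ :=
  0xc00300080020004001

/-- Its code. -/
def cT03 : ℕ :=
  0x2539c928424e631ca421443188010800c

theorem suT03 : SUn (mat mT03) := sun_of (by decide +kernel)

theorem liT03 : Lin (mat mT03) false cT03 := lin_of suT03.2 (by decide +kernel) (by decide +kernel)

theorem o3T03 : O3 (mat mT03) := o3_of suT03 liT03 1 (by decide +kernel)

theorem ceT03 : Cen (pm 3) false (mat mT03) := by decide +kernel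

theorem good03 (w : MM) (h : XX (pm 3) false w = w) : Good (pm 3) false w :=
  lx03.fin (P := Good (pm 3) false) (lx03.tr (fun _ _ => Good.tr) [5, 10, 80, 160, 262400, 786944, 1024, 4096, 16384, 65536] (by decide +kernel)
    (Sat.pt (a := 0) (Good.of o3T03 ceT03 (by rw [dec_zero, act_zero]))))
    ((wt_eq fun T => Nat.beq (Nat.lor (rT T [5, 10, 80, 160, 262400, 786944, 1024, 4096, 16384, 65536] (Nat.shiftLeft 1 0)) (nfx T x03 20))
      (nt T 20)).symm.trans (by decide +kernel)) w h

/-- Code of an involution. -/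
def x10 : ℕ :=
  0x2728c1ee6b16a4a0e6290620800a

theorem lx10 : Lin (pm 0) true x10 := lin_of (su_pm 0).2 (by decide +kernel) (by decide +kernel)

/-- A matrix. -/
def mT10 : ℕ :=
  0x100040400010004001

/-- Its code. -/
def cT10 : ℕ :=
  0x2719be5093a338be7184a0e941f39bdd2939ab6a58a6216d6ad4c6292b5a50a520e538cc4308a7394863106528c4420826

theorem suT10 : SUn (mat mT10) := sun_of (by decide +kernel)

theorem liT10 : Lin (mat mT10) false cT10 := lin_of suT10.2 (by decide +kernel) (by decide +kernel)

theorem o3T10 : O3 (mat mT10) := o3_of suT10 liT10 4 (by decide +kernel)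

theorem ceT10 : Cen (pm 0) true (mat mT10) := by decide +kernel

theorem good10 (w : MM) (h : XX (pm 0) true w = w) : Good (pm 0) true w :=
  lx10.fin (P := Good (pm 0) true) (lx10.tr (fun _ _ => Good.tr) [1, 4, 16, 64, 256, 1024, 4096, 16384, 65536, 262144] (by decide +kernel)
    (Sat.pt (a := 0) (Good.of o3T10 ceT10 (by rw [dec_zero, act_zero]))))
    ((wt_eq fun T => Nat.beq (Nat.lor (rT T [1, 4, 16, 64, 256, 1024, 4096, 16384, 65536, 262144] (Nat.shiftLeft 1 0)) (nfx T x10 20))
      (nt T 20)).symm.trans (by decide +kernel)) w h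

/-- Code of an involution. -/
def x11 : ℕ :=
  0x2699222b829ed731af7b58e731718ad50829339a512920e62906208016

theorem lx11 : Lin (pm 1) true x11 := lin_of (su_pm 1).2 (by decide +kernel) (by decide +kernel)

/-- A matrix. -/
def mT11 : ℕ :=
  0x40010004001000c002

/-- Its code. -/
def cT11 : ℕ :=
  0x2539ca118c1cf7b98d6b14b5a9094a00c

theorem suT11 : SUn (mat mT11) := sun_of (by decide +kernel)

theorem liT11 : Lin (mat mT11) false cT11 := lin_of suT11.2 (by decide +kernel) (by decide +kernel)

theorem o3T11 : O3 (mat mT11) := o3_of suT11 liT11 256 (by decide +kernel)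

theorem ceT11 : Cen (pm 1) true (mat mT11) := by decide +kernel

theorem good11 (w : MM) (h : XX (pm 1) true w = w) : Good (pm 1) true w :=
  lx11.fin (P := Good (pm 1) true) (lx11.tr (fun _ _ => Good.tr) [1, 4, 16, 64, 262400, 524800, 66560, 133120, 20480, 40960] (by decide +kernel)
    (Sat.pt (a := 0) (Good.of o3T11 ceT11 (by rw [dec_zero, act_zero]))))
    ((wt_eq fun T => Nat.beq (Nat.lor (rT T [1, 4, 16, 64, 262400, 524800, 66560, 133120, 20480, 40960] (Nat.shiftLeft 1 0)) (nfx T x11 20))
      (nt T 20)).symm.trans (by decide +kernel)) w h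

/-- Code of an involution. -/
def x12 : ℕ :=
  0x9a6488be0e7c62f7420e6ad8a5b5ab5318a4ce6944a48398a4188611804008c20184021001d

theorem lx12 : Lin (pm 2) true x12 := lin_of (su_pm 2).2 (by decide +kernel) (by decide +kernel)

/-- A matrix. -/
def mT12 : ℕ :=
  0x4001000c0020004001

/-- Its code. -/
def cT12 : ℕ :=
  0x230845ee73d8d6b14b5a86210c010800c

theorem suT12 : SUn (mat mT12) := sun_of (by decide +kernel)

theorem liT12 : Lin (mat mT12) false cT12 := lin_of suT12.2 (by decide +kernel) (by decide +kernel)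

theorem o3T12 : O3 (mat mT12) := o3_of suT12 liT12 1 (by decide +kernel)

theorem ceT12 : Cen (pm 2) true (mat mT12) := by decide +kernel

theorem good12 (w : MM) (h : XX (pm 2) true w = w) : Good (pm 2) true w :=
  lx12.fin (P := Good (pm 2) true) (lx12.tr (fun _ _ => Good.tr) [5, 14, 16, 64, 262400, 524800, 5120, 10240, 81920, 163840] (by decide +kernel)
    (Sat.pt (a := 0) (Good.of o3T12 ceT12 (by rw [dec_zero, act_zero]))))
    ((wt_eq fun T => Nat.beq (Nat.lor (rT T [5, 14, 16, 64, 262400, 524800, 5120, 10240, 81920, 163840] (Nat.shiftLeft 1 0)) (nfx T x12 20))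
      (nt T 20)).symm.trans (by decide +kernel)) w h

/-- Code of an involution. -/
def x13 : ℕ :=
  0x269921339a512920e6394e4310a7290e5218c4188611804008c201840210018

theorem lx13 : Lin (pm 3) true x13 := lin_of (su_pm 3).2 (by decide +kernel) (by decide +kernel)

/-- A matrix. -/
def mT13 : ℕ :=
  0xc00200040010008003

/-- Its code. -/
def cT13 : ℕ :=
  0x27294e118c18d6b128424e631c852900c

theorem suT13 : SUn (mat mT13) := sun_of (by decide +kernel)

theorem liT13 : Lin (mat mT13) false cT13 := lin_of suT13.2 (by decide +kernel) (by decide +kernel)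

theorem o3T13 : O3 (mat mT13) := o3_of suT13 liT13 16 (by decide +kernel)

theorem ceT13 : Cen (pm 3) true (mat mT13) := by decide +kernel

/-- A matrix. -/
def mC13 : ℕ :=
  0x98d7363d78697f29ac

/-- Its code. -/
def cC13 : ℕ :=
  0x9c66f9ba6c9ae6799a6498a6094e4d92e4a90e418ce308b2298962483a0c80e02805f37c9f17c1ee7a1e6791e3789e17820f749d0735c9721c77020e6cdb26c1ab6a1a0835936498d62d8a621806b1735c9705bd6e5b16859964581535495153d4c52d4851d45511404c5304bd2e4b12a49925489204451043d0c42d0a425074150440d02405003ccf13c0ee3b0eb3a4e6390e234cd133ccc320c5310c22c8ae2b4aa2a4a628ca2284932489123c8e2308b224862148220480290721c4701b0691a066188c311c4511043100620cc320c4300b0280908104c1103c0e0340c028090140400801080b9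

theorem suC13 : SUn (mat mC13) := sun_of (by decide +kernel)

theorem liC13 : Lin (mat mC13) false cC13 := lin_of suC13.2 (by decide +kernel) (by decide +kernel)

/-- A matrix. -/
def mD13 : ℕ :=
  0x5f45a17279c935f85a

/-- Its code. -/
def cD13 : ℕ :=
  0x2719c26e9b66c9aa699a26798e6194e519424f93a4d9324b92a4891a43906728ce2f8b62c8ae2a8922388a218821384a118320b82a0881a05802307cdf17b9ec791e28bdd3749d1741cf735ca721c7719c4701ee6cdb16b9ac69da5681926458f6398d62186615845c16e58d6258553549515414e52d485194550d42505405a9324b92b48d2144d104390d42d0940d014a0f33c8f03bced3acea3a0e538ce141cd3324c4308c0498af2acaa2a0a728ca12408f2348b2288921883204721b86c1ac6a19460148511404f1384c1284811c4611443188320c4300bc2b09423080120441003c0e0300a0200701805004be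

theorem suD13 : SUn (mat mD13) := sun_of (by decide +kernel)

theorem liD13 : Lin (mat mD13) false cD13 := lin_of suD13.2 (by decide +kernel) (by decide +kernel)

theorem ceC13 : Cen (pm 3) true (mat mC13) := by decide +kernel

theorem ceD13 : Cen (pm 3) true (mat mD13) := by decide +kernel

theorem good13 (w : MM) (h : XX (pm 3) true w = w) : Good (pm 3) true w :=
  lx13.fin (liC13.two liD13 (Good (pm 3) true)
    (fun _ => Good.conj (su_pm 3).1 suC13 ceC13) (fun _ => Good.conj (su_pm 3).1 suD13 ceD13)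
    [1, 0, 1, 0, 1, 0, 1, 0, 0] (by decide) (lx13.tr (fun _ _ => Good.tr) [5, 14, 80, 224, 262400, 524800] (by decide +kernel)
      ((sat_fix liT13 [5, 14, 1024, 2048, 16384, 32768] (by decide +kernel)).mono fun _ _ => Good.of o3T13 ceT13)))
    ((wt_eq fun T => Nat.beq (Nat.lor (rL T [cC13, cD13] [1, 0, 1, 0, 1, 0, 1, 0, 0] (rT T [5, 14, 80, 224, 262400, 524800]
      (rT T [5, 14, 1024, 2048, 16384, 32768] (Nat.shiftLeft 1 0)))) (nfx T x13 20)) (nt T 20)).symm.trans (by decide +kernel)) w h

theorem spanA0 (Y : AddSubgroup MM) (h : ∀ w, qf w = 0 → w ∈ Y) (w : MM) : w ∈ Y := by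
  obtain ⟨n, hn, rfl⟩ := exists_dec w
  exact Sat.all (sat_span Y [5, 6, 7, 9, 17, 33, 65, 129, 257, 513, 1025, 2049, 4097, 8193, 16385, 32769, 65537, 131073, 262145, 524289] fun a ha => h _ (by revert a; decide +kernel))
    ((wt_eq fun T => Nat.beq (rT T [5, 6, 7, 9, 17, 33, 65, 129, 257, 513, 1025, 2049, 4097, 8193, 16385, 32769, 65537, 131073, 262145, 524289] (Nat.shiftLeft 1 0)) (nt T 20)).symm.trans
      (by decide +kernel)) n hn

theorem spanA1 (Y : AddSubgroup MM) (h : ∀ w, qf w = 1 → w ∈ Y) (w : MM) : w ∈ Y := by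
  obtain ⟨n, hn, rfl⟩ := exists_dec w
  exact Sat.all (sat_span Y [1, 2, 4, 8, 16, 32, 64, 128, 256, 512, 1024, 2048, 4096, 8192, 16384, 32768, 65536, 131072, 262144, 524288] fun a ha => h _ (by revert a; decide +kernel))
    ((wt_eq fun T => Nat.beq (rT T [1, 2, 4, 8, 16, 32, 64, 128, 256, 512, 1024, 2048, 4096, 8192, 16384, 32768, 65536, 131072, 262144, 524288] (Nat.shiftLeft 1 0)) (nt T 20)).symm.trans
      (by decide +kernel)) n hn

theorem spanW0 (Y : AddSubgroup MM) (h : ∀ w, XX (pm 2) false w = w → qf w = 0 → w ∈ Y) (w : MM)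
    (hw : XX (pm 2) false w = w) : w ∈ Y :=
  lx02.fin (P := (· ∈ Y)) (sat_span Y [5, 10, 80, 96, 144, 262400, 5120, 81920, 112, 786944, 14336, 229376] fun a ha => h _
      (by rw [← lx02.2 _ (Nat.mod_lt _ (by norm_num))]; revert a; decide +kernel)
      (by revert a; decide +kernel))
    ((wt_eq fun T => Nat.beq (Nat.lor (rT T [5, 10, 80, 96, 144, 262400, 5120, 81920, 112, 786944, 14336, 229376] (Nat.shiftLeft 1 0)) (nfx T x02 20))
      (nt T 20)).symm.trans (by decide +kernel)) w hw

theorem spanW1 (Y : AddSubgroup MM) (h : ∀ w, XX (pm 2) false w = w → qf w = 1 → w ∈ Y) (w : MM)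
    (hw : XX (pm 2) false w = w) : w ∈ Y :=
  lx02.fin (P := (· ∈ Y)) (sat_span Y [16, 32, 64, 128, 21, 26, 262416, 5136, 81936, 786960, 14352, 229392] fun a ha => h _
      (by rw [← lx02.2 _ (Nat.mod_lt _ (by norm_num))]; revert a; decide +kernel)
      (by revert a; decide +kernel))
    ((wt_eq fun T => Nat.beq (Nat.lor (rT T [16, 32, 64, 128, 21, 26, 262416, 5136, 81936, 786960, 14352, 229392] (Nat.shiftLeft 1 0)) (nfx T x02 20))
      (nt T 20)).symm.trans (by decide +kernel)) w hw

theorem good (e : Bool) (r : Fin 4) (h : e = false → r ≠ 0 ∧ r ≠ 2) (w : MM) (hw : XX (pm r) e w = w) :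
    Good (pm r) e w := by
  cases e
  · fin_cases r
    · exact absurd rfl (h rfl).1
    · exact good01 w hw
    · exact absurd rfl (h rfl).2
    · exact good03 w hw
  · fin_cases r
    · exact good10 w hw
    · exact good11 w hw
    · exact good12 w hw
    · exact good13 w hw

theorem good_zero : Good (pm 2) false 0 := Good.of o3T02 ceT02 (act_zero _)

end Cfsg.Lib.U20
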