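import Cfsg.Agent.U20.Kit
import Cfsg.Agent.Mon.UQMod
import Cfsg.Agent.Mon.UQMod2
import Cfsg.Agent.Class.UModel
import Cfsg.Agent.S2692

/-! Identification of an elementary abelian group of order `2 ^ 20` on which `U6(2)` acts. -/

set_option autoImplicit false

namespace Cfsg.Lib.U20

open Matrix Cfsg Cfsg.Lib.Spor Cfsg.Lib.Mon Cfsg.Lib.Class

/-- The special unitary group. -/
abbrev SS := SU 6 Spor.GF4 2

/-- The simple group. -/
abbrev PP := PSU 6 Spor.GF4 2

theorem hK4 : Fintype.card Spor.GF4 = 2 ^ 2 := rfl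

theorem un_iff (g : GL (Fin 6) Spor.GF4) : g ∈ GU 6 Spor.GF4 2 ↔ Un g := by
  have : ((g : Mt).map (· ^ 2)) = (g : Mt).map cj := by ext i j; exact pow_two _
  rw [TvP.mem_GU_iff hK4, this, Un]

/-- The matrix of an element. -/
def sm (s : SS) : Mt := (s : SpecialLinearGroup (Fin 6) Spor.GF4)

theorem sm_sun (s : SS) : SUn (sm s) :=
  ⟨(un_iff (SpecialLinearGroup.toGL s.1)).1 s.2, s.1.2⟩

theorem sm_mul (s t : SS) : sm (s * t) = sm s * sm t := rfl

theorem sm_one : sm 1 = 1 := rfl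

theorem sm_inj {s t : SS} (h : sm s = sm t) : s = t := Subtype.ext (Subtype.ext h)

/-- The element with a given matrix. -/
def mkS (g : Mt) (h : SUn g) : SS :=
  ⟨⟨g, h.2⟩, (un_iff (SpecialLinearGroup.toGL ⟨g, h.2⟩)).2 h.1⟩

theorem sm_mkS (g : Mt) (h : SUn g) : sm (mkS g h) = g := rfl

/-- The class of an element. -/
abbrev pk (s : SS) : PP := QuotientGroup.mk s

theorem pk_eq {s t : SS} (h : pk s = pk t) : ∃ c : Spor.GF4, c ^ 3 = 1 ∧ sm t = c • sm s := by
  obtain ⟨c, hc⟩ := (Form.mem_center_SU_iff hK4 6 (by norm_num) _).1 (QuotientGroup.eq.1 h)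
  have h1 : sm (s⁻¹ * t) = c • 1 := hc
  have h2 := (sm_sun (s⁻¹ * t)).2
  rw [h1, det_smul, det_one, mul_one, Fintype.card_fin] at h2
  refine ⟨c, (by decide : ∀ c : Spor.GF4, c ^ 6 = 1 → c ^ 3 = 1) c h2, ?_⟩
  rw [← mul_inv_cancel_left s t, sm_mul, h1, Matrix.mul_smul, Matrix.mul_one]

theorem act_out (s : SS) (w : MM) : act (sm (pk s).out) w = act (sm s) w := by
  obtain ⟨c, h1, h2⟩ := pk_eq (s := s) (t := (pk s).out) (QuotientGroup.out_eq' _).symm
  rw [h2, act_smul h1]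

/-- The module structure. -/
@[reducible] def modMM : Module (ZMod 2) MM :=
  AddCommGroup.zmodModule fun x => by rw [two_nsmul, mm_add_self]

attribute [local instance] modMM

theorem card_MM : Nat.card MM = 2 ^ 20 := by
  rw [Nat.card_fun, Nat.card_eq_fintype_card, Spor.GF4.card]; simp

theorem exists_rhoM : ∃ ρ : PP →* (MM ≃ₗ[ZMod 2] MM), ∀ s w, ρ (pk s) w = act (sm s) w := by
  obtain ⟨ρ, h⟩ := UQM.exists_rho (V := MM) (G := PP)
    (fun p => AddMonoidHom.mk' (act (sm p.out)) (act_add _))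
    (fun v => (act_out 1 v).trans (act_one v)) fun p q v => by
      obtain ⟨s, rfl⟩ := QuotientGroup.mk_surjective p
      obtain ⟨t, rfl⟩ := QuotientGroup.mk_surjective q
      show act (sm (pk (s * t)).out) v = act (sm (pk s).out) (act (sm (pk t).out) v)
      rw [act_out, act_out, act_out, sm_mul, act_mul _ (sm_sun t).1]
  exact ⟨ρ, fun s w => (h _ w).trans (act_out s w)⟩

theorem act_ne : act (pm 1) (dec 256) ≠ dec 256 := by
  rw [show act (pm 1) (dec 256) = fun i => (C3 (pm 1) *ᵥ ex (dec 256)) (lo i) by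
    funext i; rw [act, (su_pm 1).2, one_mul]]
  decide +kernel

theorem equiv_PP : Nonempty (CK.sU6 ≃* PP) := by
  obtain ⟨e⟩ := Agent.S1577.equiv_sU6
  exact ⟨e.trans Agent.S1577.psuE.symm⟩

theorem ne_comp {M : Type*} [Group M] (e : CK.sU6 ≃* PP) {ρ : PP →* M} (h : ∃ p, ρ p ≠ 1) :
    ∃ g, ρ.comp e.toMonoidHom g ≠ 1 := by
  obtain ⟨p, h⟩ := h
  exact ⟨e.symm p, by simpa using h⟩

theorem end_MM (c : MM →+ MM) (hc : ∀ s w, c (act (sm s) w) = act (sm s) (c w)) :
    (∀ w, c w = 0) ∨ ∀ w, c w = w := by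
  obtain ⟨ρ, h⟩ := exists_rhoM
  obtain ⟨e⟩ := equiv_PP
  have := UQM.end_U6 card_MM (ρ.comp e.toMonoidHom) (ne_comp e ⟨pk (mkS _ (su_pm 1)), fun q =>
    act_ne (by rw [← sm_mkS _ (su_pm 1), ← h, q]; rfl)⟩) (c.toZModLinearMap 2) fun g v => by
      obtain ⟨s, hs⟩ := QuotientGroup.mk_surjective (e g)
      show c (ρ (e g) v) = ρ (e g) (c v)
      rw [← hs, h, h, hc]
  exact this.imp (fun q w => LinearMap.congr_fun q w) fun q w => LinearMap.congr_fun q w

variable {X : Type*} [Group X]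

/-- Coordinates on the subgroup. -/
structure Fr (A : Subgroup X) (ι : PP →* X) (θ : MM → X) : Prop where
  mem : ∀ w, θ w ∈ A
  surj : ∀ a ∈ A, ∃ w, θ w = a
  inj : Function.Injective θ
  add : ∀ w w', θ (w + w') = θ w * θ w'
  act : ∀ s w, θ (act (sm s) w) = ι (pk s) * θ w * (ι (pk s))⁻¹

theorem exists_fr {A : Subgroup X} (hc : Nat.card A = 2 ^ 20) (h2 : ∀ a ∈ A, a * a = 1)
    (ι : PP →* X) (hn : ∀ p, ∀ a ∈ A, ι p * a * (ι p)⁻¹ ∈ A)
    (hne : ∃ p, ∃ a ∈ A, ι p * a * (ι p)⁻¹ ≠ a) : ∃ θ, Fr A ι θ := by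
  have q2 : ∀ a : A, a * a = 1 := fun a => Subtype.ext (h2 a a.2)
  let _ : CommGroup A := { (inferInstance : Group A) with
    mul_comm := fun a b => by
      rw [← inv_eq_of_mul_eq_one_right (q2 (a * b)), _root_.mul_inv_rev,
        inv_eq_of_mul_eq_one_right (q2 a), inv_eq_of_mul_eq_one_right (q2 b)] }
  let _ : Module (ZMod 2) (Additive A) :=
    AddCommGroup.zmodModule fun x => by rw [two_nsmul]; exact q2 x.toMul
  obtain ⟨ρ, h⟩ := UQM.exists_rho (V := Additive A) (G := PP)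
    (fun p => AddMonoidHom.mk' (fun a => Additive.ofMul ⟨_, hn p _ a.toMul.2⟩) fun a b =>
      congrArg Additive.ofMul (Subtype.ext (by simp)))
    (fun v => congrArg Additive.ofMul (Subtype.ext (by simp; rfl)))
    fun p q v => congrArg Additive.ofMul (Subtype.ext (by simp [mul_assoc]))
  obtain ⟨ρ', h'⟩ := exists_rhoM
  obtain ⟨e⟩ := equiv_PP
  obtain ⟨f, hf⟩ := UQM.exists_equiv_U6 (V := Additive A) hc card_MM (ρ.comp e.toMonoidHom)
    (ρ'.comp e.toMonoidHom) (ne_comp e (by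
      obtain ⟨p, a, ha, q⟩ := hne
      refine ⟨p, fun k => q ?_⟩
      have := h p (Additive.ofMul ⟨a, ha⟩)
      rw [k] at this
      exact (congrArg (fun x : Additive A => (x.toMul : X)) this).symm))
    (ne_comp e ⟨pk (mkS _ (su_pm 1)), fun q => act_ne (by rw [← sm_mkS _ (su_pm 1), ← h', q]; rfl)⟩)
  refine ⟨fun w => (f w).toMul, fun w => (f w).toMul.2, fun a ha => ⟨f.symm (Additive.ofMul ⟨a, ha⟩),
    by simp⟩, fun w w' q => f.injective (Subtype.ext q), fun w w' => by simp, fun s w => ?_⟩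
  have := hf (e.symm (pk s)) w
  simp only [MonoidHom.comp_apply, MulEquiv.coe_toMonoidHom, MulEquiv.apply_symm_apply, h, h'] at this
  rw [this]; rfl

theorem exists_sg (σ : Spor.GF4 ≃+* Spor.GF4) : ∃ e, ∀ a, σ a = sg e a := by
  have h : σ GF4.w * σ GF4.w = σ GF4.w + 1 := by
    rw [← map_mul, ← map_one σ, ← map_add]; rfl
  rcases (by decide : ∀ c : Spor.GF4, c * c = c + 1 → c = GF4.w ∨ c = GF4.w + 1) _ h with q | q
  · refine ⟨false, fun a => ?_⟩
    rcases GF4.cases a with rfl | rfl | rfl | rfl <;> simp only [map_add, map_zero, map_one, q] <;> rfl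
  · refine ⟨true, fun a => ?_⟩
    rcases GF4.cases a with rfl | rfl | rfl | rfl <;> simp only [map_add, map_zero, map_one, q] <;> rfl

theorem SUn.map {s : Mt} (h : SUn s) (σ : Spor.GF4 →+* Spor.GF4) : SUn (s.map σ) :=
  ⟨h.1.map σ, by rw [← RingHom.mapMatrix_apply, ← RingHom.map_det, h.2, map_one]⟩

theorem SUn.conj' {g s : Mt} (a : SUn s) (b : Un g) : SUn (g * s * U20.ad g) :=
  ⟨(b.mul a.1).mul b.ad, by rw [det_mul, det_mul, a.2, mul_one, mul_comm, b.det_ad]⟩

variable {A : Subgroup X} {ι : PP →* X} {θ : MM → X}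

theorem Fr.zero (h : Fr A ι θ) : θ 0 = 1 := by
  have := h.add 0 0
  rw [add_zero] at this
  exact left_eq_mul.1 this

theorem Fr.aut (h : Fr A ι θ) {x : X} (hx : ∀ a ∈ A, x⁻¹ * a * x ∈ A) (β : MulAut PP)
    (hβ : ∀ p, x * ι p * x⁻¹ = ι (β p)) : ∃ g e, Un g ∧ (∀ w, θ (XX g e w) = x * θ w * x⁻¹) ∧
      ∀ s s', sm s' * g = g * (sm s).map (sg e) → x * ι (pk s) * x⁻¹ = ι (pk s') := by
  obtain ⟨δ, φ, σ, ⟨g, g1, g2⟩, h2, rfl⟩ := Agent.S2692.result (p := 2) (f := 1) (q := 2) rfl le_rfl hK4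
    (n := 6) (by norm_num) (by norm_num) β
  obtain ⟨e, he⟩ := exists_sg σ
  have u := (un_iff g).1 g1
  have k : ∀ s s', sm s' * g = g * (sm s).map (sg e) → x * ι (pk s) * x⁻¹ = ι (pk s') := by
    intro s s' q
    rw [hβ, MulAut.mul_apply, h2 s (mkS _ ((sm_sun s).map (sg e))) (by ext i j; exact (he _).symm),
      g2 _ s']
    show sm s' = g * (sm s).map (sg e) * _
    rw [← q, Matrix.mul_assoc, Units.mul_inv, Matrix.mul_one]
  refine ⟨g, e, u, ?_, k⟩
  choose c hc using fun w => h.surj _ (hx _ (h.mem (XX g e w)))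
  have := end_MM (AddMonoidHom.mk' c fun a b => h.inj (by
    rw [h.add, hc, hc, hc, XX_add, h.add]; group)) fun s w => h.inj (by
      have q : sm (mkS _ (((sm_sun s).map (sg e)).conj' u)) * g = g * (sm s).map (sg e) := by
        rw [sm_mkS, Matrix.mul_assoc, u.ad_mul, Matrix.mul_one]
      show θ (c _) = θ (U20.act _ (c _))
      rw [h.act, hc, hc, XX, ← act_map, ← act_mul _ ((sm_sun s).1.map _), ← q, act_mul _ u, h.act,
        ← k _ _ q, XX]
      group)
  rcases this with q | q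
  · have h1 := hc (sg e ∘ U20.act (ad g) (dec 1))
    rw [show c _ = 0 from q _, h.zero, XX,
      show sg e ∘ sg e ∘ U20.act (ad g) (dec 1) = _ from funext fun i => sg_sg e _, u.act_ad'] at h1
    have : θ (dec 1) = θ 0 := by
      rw [h.zero]
      calc _ = x * (x⁻¹ * θ (dec 1) * x) * x⁻¹ := by group
        _ = 1 := by rw [← h1]; group
    exact absurd (h.inj this) (by decide)
  · intro w
    rw [← show c w = w from q w, hc, show c w = w from q w]
    group

end Cfsg.Lib.U20
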