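import Cfsg.Agent.U20.Kit

/-! A linear or semilinear unitary involution permutes an orthonormal basis. -/

set_option autoImplicit false

namespace Cfsg.Lib.U20

open Matrix Cfsg.Lib.Spor

/-- The natural module. -/
abbrev VV := Fin 6 → GF4

/-- The Hermitian form. -/
def hf (u v : VV) : GF4 := ∑ k, cj (u k) * v k

theorem hf_add_l (u u' v : VV) : hf (u + u') v = hf u v + hf u' v := by
  simp only [hf, Pi.add_apply, map_add, add_mul, Finset.sum_add_distrib]

theorem hf_add_r (u v v' : VV) : hf u (v + v') = hf u v + hf u v' := by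
  simp only [hf, Pi.add_apply, mul_add, Finset.sum_add_distrib]

theorem hf_smul_l (c : GF4) (u v : VV) : hf (c • u) v = cj c * hf u v := by
  simp only [hf, Pi.smul_apply, smul_eq_mul, map_mul, Finset.mul_sum, mul_assoc]

theorem hf_smul_r (c : GF4) (u v : VV) : hf u (c • v) = c * hf u v := by
  simp only [hf, Pi.smul_apply, smul_eq_mul, Finset.mul_sum, mul_left_comm]

theorem hf_cj (u v : VV) : hf v u = cj (hf u v) := by
  simp only [hf, map_sum, map_mul, cj_cj, mul_comm]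

theorem hf_zero_r (u : VV) : hf u 0 = 0 := by simp [hf]

theorem hf_symm {u v : VV} (h : hf u v = 0) : hf v u = 0 := by rw [hf_cj, h, map_zero]

theorem hf_nd {u : VV} (h : u ≠ 0) : ∃ v, hf u v ≠ 0 := by
  obtain ⟨i, hi⟩ := Function.ne_iff.1 h
  refine ⟨Pi.single i 1, ?_⟩
  rw [hf, Finset.sum_eq_single i (fun b _ hb => by simp [hb]) (by simp)]
  simpa [cj_apply] using hi

theorem vv_add_self (v : VV) : v + v = 0 := funext fun i => GF4.add_self (v i)

theorem eq_of_add {u v : VV} (h : u + v = 0) : v = u := by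
  rw [← add_zero v, ← vv_add_self u, ← add_assoc, add_comm v, h, zero_add]

theorem herm_one {U : VV → Prop} (ha : ∀ u v, U u → U v → U (u + v))
    (hs : ∀ (c : GF4) u, U u → U (c • u)) {N : VV → VV} (na : ∀ u v, N (u + v) = N u + N v)
    (ns : ∀ (c : GF4) u, N (c • u) = c • N u) (nh : ∀ u v, hf v (N u) = cj (hf u (N v))) {u v : VV}
    (hu : U u) (hv : U v) (h : hf u (N v) ≠ 0) : ∃ x, U x ∧ hf x (N x) = 1 := by
  by_contra! k
  have k0 : ∀ x, U x → hf x (N x) = 0 := fun x hx =>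
    (by decide : ∀ c : GF4, c = cj c → c ≠ 1 → c = 0) _ (nh x x) (k x hx)
  refine k _ (ha _ _ hu (hs (GF4.w * (hf u (N v))⁻¹) v hv)) ?_
  simp only [na, ns, hf_add_l, hf_add_r, hf_smul_l, hf_smul_r, k0 u hu, k0 v hv, nh u v]
  exact (by decide : ∀ c : GF4, c ≠ 0 → 0 + cj (GF4.w * c⁻¹) * cj c +
    GF4.w * c⁻¹ * (c + cj (GF4.w * c⁻¹) * 0) = 1) _ h

/-- A semilinear isometric involution. -/
structure SI (γ : VV → VV) (e : Bool) : Prop where
  add : ∀ u v, γ (u + v) = γ u + γ v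
  smul : ∀ (c : GF4) u, γ (c • u) = sg e c • γ u
  iso : ∀ u v, hf (γ u) (γ v) = sg e (hf u v)
  inv : ∀ u, γ (γ u) = u

theorem SI.step {γ : VV → VV} {e : Bool} (h : SI γ e) {U : VV → Prop}
    (ha : ∀ u v, U u → U v → U (u + v)) (hs : ∀ (c : GF4) u, U u → U (c • u))
    (hg : ∀ u, U u → U (γ u)) (nd : ∀ u, U u → u ≠ 0 → ∃ v, U v ∧ hf u v ≠ 0) {u : VV} (hu : U u)
    (h0 : u ≠ 0) : ∃ x, U x ∧ hf x x = 1 ∧ (γ x = x ∨ hf x (γ x) = 0) := by
  cases e
  · have hi : ∀ x y, hf x (γ y) = hf (γ x) y := fun x y => by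
      have := h.iso (γ x) y
      rwa [h.inv] at this
    have sm : ∀ (c : GF4) u, γ (c • u) = c • γ u := h.smul
    by_cases k : ∃ x y, U x ∧ U y ∧ hf x (y + γ y) ≠ 0
    · obtain ⟨x, y, hx, hy, k⟩ := k
      obtain ⟨x, hx, k⟩ := herm_one ha hs (N := fun y => y + γ y)
        (fun u v => by rw [h.add]; abel) (fun c u => by rw [sm, smul_add])
        (fun u v => by rw [hf_add_r, hf_add_r, map_add, hi u, ← hf_cj, ← hf_cj]) hx hy k
      rw [hf_add_r] at k
      by_cases k1 : hf x x = 1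
      · exact ⟨x, hx, k1, .inr (by rw [k1] at k; simpa using k)⟩
      · have k0 : hf x x = 0 := (by decide : ∀ c : GF4, c = cj c → c ≠ 1 → c = 0) _ (hf_cj x x) k1
        rw [k0, zero_add] at k
        have k2 : hf (γ x) x = 1 := by rw [← hi, k]
        have k3 : hf (γ x) (γ x) = 0 := by rw [← hi, h.inv, k0]
        refine ⟨x + GF4.w • (x + γ x), ha _ _ hx (hs _ _ (ha _ _ hx (hg _ hx))), ?_, .inr ?_⟩ <;>
          simp only [h.add, sm, h.inv, hf_add_l, hf_add_r, hf_smul_l, hf_smul_r, k, k0, k2, k3] <;>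
          decide
    · push Not at k
      obtain ⟨v, hv, hv'⟩ := nd u hu h0
      obtain ⟨x, hx, k1⟩ := herm_one ha hs (N := id) (fun _ _ => rfl) (fun _ _ => rfl)
        (fun u v => hf_cj u v) hu hv hv'
      refine ⟨x, hx, k1, .inl (eq_of_add ?_)⟩
      by_contra k2
      obtain ⟨y, hy, k3⟩ := nd _ (ha _ _ hx (hg _ hx)) k2
      exact k3 (hf_symm (k y x hy hx))
  · have sm : ∀ (c : GF4) u, γ (c • u) = cj c • γ u := h.smul
    have fx : ∀ v, γ (v + γ v) = v + γ v := fun v => by rw [h.add, h.inv, add_comm]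
    by_cases k : ∃ x, U x ∧ γ x = x ∧ hf x x = 1
    · obtain ⟨x, a, b, c⟩ := k
      exact ⟨x, a, c, .inl b⟩
    push Not at k
    have k0 : ∀ x, U x → γ x = x → hf x x = 0 := fun x hx q =>
      (by decide : ∀ c : GF4, c = cj c → c ≠ 1 → c = 0) _ (hf_cj x x) (k x hx q)
    obtain ⟨a, a1, a2, a3⟩ : ∃ a, U a ∧ γ a = a ∧ a ≠ 0 := by
      by_cases q : γ u = u
      · exact ⟨u, hu, q, h0⟩
      · exact ⟨_, ha _ _ hu (hg _ hu), fx u, fun e => q (eq_of_add e)⟩
    obtain ⟨b, b1, b2, b3⟩ : ∃ b, U b ∧ γ b = b ∧ hf a b = 1 := by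
      obtain ⟨v, hv, q⟩ := nd a a1 a3
      refine ⟨_, ha _ _ (hs (GF4.w * (hf a v)⁻¹) v hv) (hg _ (hs _ v hv)), fx _, ?_⟩
      have : hf a (γ v) = cj (hf a v) := by
        have := h.iso a v
        rwa [a2] at this
      rw [sm, hf_add_r, hf_smul_r, hf_smul_r, this]
      exact (by decide : ∀ c : GF4, c ≠ 0 → GF4.w * c⁻¹ * c + cj (GF4.w * c⁻¹) * cj c = 1) _ q
    have b4 : hf b a = 1 := by rw [hf_cj, b3, map_one]
    refine ⟨GF4.w • a + b, ha _ _ (hs _ _ a1) b1, ?_, .inr ?_⟩ <;>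
      simp only [h.add, sm, a2, b2, hf_add_l, hf_add_r, hf_smul_l, hf_smul_r, b3, b4, k0 a a1 a2,
        k0 b b1 b2] <;> decide

/-- Orthonormal lists. -/
def ON (L : List VV) : Prop := L.Pairwise (fun a b => hf a b = 0) ∧ ∀ a ∈ L, hf a a = 1

theorem ON.cons {L : List VV} (h : ON L) {x : VV} (h1 : hf x x = 1) (h2 : ∀ a ∈ L, hf a x = 0) :
    ON (x :: L) :=
  ⟨List.pairwise_cons.2 ⟨fun a ha => hf_symm (h2 a ha), h.1⟩, List.forall_mem_cons.2 ⟨h1, h.2⟩⟩

theorem ON.perm {L L' : List VV} (h : ON L) (p : L.Perm L') : ON L' :=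
  ⟨h.1.perm p hf_symm, fun a ha => h.2 a (p.symm.subset ha)⟩

theorem ON.get {L : List VV} (h : ON L) (i j : Fin L.length) :
    hf (L.get i) (L.get j) = if i = j then 1 else 0 := by
  have := List.pairwise_iff_get.1 h.1
  split_ifs with e
  · exact e ▸ h.2 _ (List.get_mem L i)
  · rcases lt_or_gt_of_ne e with q | q
    · exact this i j q
    · exact hf_symm (this j i q)

theorem ON.proj : ∀ {L : List VV}, ON L → ∀ v, ∃ v', (∀ a ∈ L, hf a v' = 0) ∧
    ∀ u, (∀ a ∈ L, hf a u = 0) → hf u v' = hf u v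
  | [], _, v => ⟨v, by simp, fun _ _ => rfl⟩
  | a :: L, h, v => by
    have h1 := List.pairwise_cons.1 h.1
    have h2 := List.forall_mem_cons.1 h.2
    obtain ⟨v1, q1, q2⟩ := ON.proj ⟨h1.2, h2.2⟩ v
    refine ⟨v1 + hf a v1 • a, List.forall_mem_cons.2 ⟨?_, fun b hb => ?_⟩, fun u hu => ?_⟩
    · rw [hf_add_r, hf_smul_r, h2.1, mul_one, GF4.add_self]
    · rw [hf_add_r, hf_smul_r, q1 b hb, hf_symm (h1.1 b hb), mul_zero, add_zero]
    · have := List.forall_mem_cons.1 hu
      rw [hf_add_r, hf_smul_r, hf_symm this.1, mul_zero, add_zero, q2 u this.2]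

theorem ON.le {L : List VV} (h : ON L) : L.length ≤ 6 := by
  have li : LinearIndependent GF4 L.get := by
    refine Fintype.linearIndependent_iff.2 fun c hc i => ?_
    have q : ∀ s : Finset (Fin L.length), hf (L.get i) (∑ j ∈ s, c j • L.get j) =
        ∑ j ∈ s, c j * hf (L.get i) (L.get j) := fun s => by
      induction s using Finset.induction_on with
      | empty => simp [hf_zero_r]
      | insert a s ha ih => rw [Finset.sum_insert ha, Finset.sum_insert ha, hf_add_r, hf_smul_r, ih]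
    have := q Finset.univ
    rw [hc, hf_zero_r] at this
    simp only [h.get] at this
    simpa using this.symm
  simpa using li.fintype_card_le_finrank

theorem exists_perp {L : List VV} (h : L.length < 6) : ∃ u, u ≠ 0 ∧ ∀ a ∈ L, hf a u = 0 := by
  obtain ⟨v, v', h1, h2⟩ := Fintype.exists_ne_map_eq_of_card_lt
    (fun (v : VV) (i : Fin L.length) => hf (L.get i) v) (by
      simp only [Fintype.card_fun, Fintype.card_fin, GF4.card]
      exact Nat.pow_lt_pow_right (by norm_num) h)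
  refine ⟨v + v', fun e => h1 (eq_of_add e).symm, fun a ha => ?_⟩
  obtain ⟨i, rfl⟩ := List.get_of_mem ha
  rw [hf_add_r, congrFun h2 i, GF4.add_self]

theorem SI.lists {γ : VV → VV} {e : Bool} (h : SI γ e) : ∀ k ≤ 6, ∃ Lp Lf : List VV,
    ON ((Lp.flatMap fun x => [x, γ x]) ++ Lf) ∧ (∀ f ∈ Lf, γ f = f) ∧ k ≤ 2 * Lp.length + Lf.length
  | 0, _ => ⟨[], [], ⟨by simp, by simp⟩, by simp, by simp⟩
  | k + 1, hk => by
    obtain ⟨Lp, Lf, h1, h2, h3⟩ := h.lists k (by omega)
    by_cases h4 : k + 1 ≤ 2 * Lp.length + Lf.length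
    · exact ⟨Lp, Lf, h1, h2, h4⟩
    set L := (Lp.flatMap fun x => [x, γ x]) ++ Lf with hL
    have hl : L.length = 2 * Lp.length + Lf.length := by
      simp [hL, List.length_flatMap, mul_comm]
    have cl : ∀ a ∈ L, γ a ∈ L := fun a ha => by
      simp only [hL, List.mem_append, List.mem_flatMap, List.mem_cons, List.not_mem_nil,
        or_false] at ha ⊢
      rcases ha with ⟨x, hx, rfl | rfl⟩ | ha
      · exact .inl ⟨_, hx, .inr rfl⟩
      · exact .inl ⟨_, hx, .inl (h.inv x)⟩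
      · exact .inr (by rwa [h2 a ha])
    have hg : ∀ u, (∀ a ∈ L, hf a u = 0) → ∀ a ∈ L, hf a (γ u) = 0 := fun u hu a ha => by
      rw [← h.inv a, h.iso, hu _ (cl a ha), map_zero]
    obtain ⟨u, u0, u1⟩ := exists_perp (L := L) (by omega)
    obtain ⟨x, x1, x2, x3⟩ := h.step (U := fun u => ∀ a ∈ L, hf a u = 0)
      (fun u v hu hv a ha => by rw [hf_add_r, hu a ha, hv a ha, add_zero])
      (fun c u hu a ha => by rw [hf_smul_r, hu a ha, mul_zero]) hg (fun u hu u0 => by
        obtain ⟨v, hv⟩ := hf_nd u0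
        obtain ⟨v', q1, q2⟩ := h1.proj v
        exact ⟨v', q1, by rwa [q2 u hu]⟩) u1 u0
    rcases x3 with x3 | x3
    · exact ⟨Lp, x :: Lf, (h1.cons x2 x1).perm List.perm_middle.symm,
        List.forall_mem_cons.2 ⟨x3, h2⟩, by simp only [List.length_cons]; omega⟩
    · refine ⟨x :: Lp, Lf, (h1.cons (x := γ x) (by rw [h.iso, x2, map_one]) (hg x x1)).cons x2
        (List.forall_mem_cons.2 ⟨hf_symm x3, x1⟩), h2, by simp only [List.length_cons]; omega⟩

theorem SI.basis {γ : VV → VV} {e : Bool} (h : SI γ e) : ∃ (b : Fin 6 → VV) (r : Fin 4),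
    (∀ i j, hf (b i) (b j) = if i = j then 1 else 0) ∧ ∀ j, γ (b j) = b (pr r j) := by
  obtain ⟨Lp, Lf, h1, h2, h3⟩ := h.lists 6 le_rfl
  have h4 := h1.le
  simp only [List.length_append, List.length_flatMap, List.length_cons, List.length_nil,
    List.map_const', List.sum_replicate, smul_eq_mul] at h4
  rcases Lp with _ | ⟨a, _ | ⟨b, _ | ⟨c, _ | ⟨d, Lp⟩⟩⟩⟩ <;>
    simp only [List.length_cons, List.length_nil] at h3 h4
  · match Lf, (show Lf.length = 6 by omega) with
    | [f0, f1, f2, f3, f4, f5], _ =>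
      exact ⟨_, 0, h1.get, fun j => by fin_cases j <;> exact h2 _ (by simp)⟩
  · match Lf, (show Lf.length = 4 by omega) with
    | [f0, f1, f2, f3], _ =>
      exact ⟨_, 1, h1.get, fun j => by
        fin_cases j <;> first | rfl | exact h.inv _ | exact h2 _ (by simp)⟩
  · match Lf, (show Lf.length = 2 by omega) with
    | [f0, f1], _ =>
      exact ⟨_, 2, h1.get, fun j => by
        fin_cases j <;> first | rfl | exact h.inv _ | exact h2 _ (by simp)⟩
  · match Lf, (show Lf.length = 0 by omega) with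
    | [], _ =>
      exact ⟨_, 3, h1.get, fun j => by fin_cases j <;> first | rfl | exact h.inv _⟩
  · omega

theorem Un.hf {g : Mt} (h : Un g) (u v : VV) : hf (g *ᵥ u) (g *ᵥ v) = hf u v := by
  have e : ∀ u v : VV, U20.hf u v = (cj ∘ u) ⬝ᵥ v := fun _ _ => rfl
  have e2 : cj ∘ (g *ᵥ u) = (cj ∘ u) ᵥ* (g.map cj)ᵀ := by
    rw [vecMul_transpose]
    funext i; exact RingHom.map_mulVec cj g u i
  rw [e, e, e2, ← dotProduct_mulVec, mulVec_mulVec, h, one_mulVec]

theorem exists_nf {g : Mt} {e : Bool} (h : Un g) (h2 : g * g.map (sg e) = 1) :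
    ∃ (P : Mt) (r : Fin 4), Un P ∧ g * P.map (sg e) = P * pm r := by
  have si : SI (fun v => g *ᵥ (sg e ∘ v)) e := by
    refine ⟨fun u v => ?_, fun c u => ?_, fun u v => ?_, fun u => ?_⟩
    · rw [← mulVec_add]; congr 1; funext i; exact map_add _ _ _
    · rw [← mulVec_smul]; congr 1; funext i; exact map_mul _ _ _
    · rw [h.hf]; simp only [hf, Function.comp, map_sum, map_mul, cj_comm]
    · have : sg e ∘ (g *ᵥ (sg e ∘ u)) = g.map (sg e) *ᵥ u := by
        funext i
        rw [Function.comp, RingHom.map_mulVec]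
        exact congrArg (fun z => (g.map (sg e) *ᵥ z) i) (funext fun j => sg_sg e _)
      rw [this, mulVec_mulVec, h2, one_mulVec]
  obtain ⟨b, r, h3, h4⟩ := si.basis
  refine ⟨Matrix.of fun i j => b j i, r, ?_, ?_⟩
  · ext i j
    exact (h3 i j).trans (one_apply ..).symm
  · ext i j
    refine (congrFun (h4 j) i).trans ?_
    rw [mul_apply]
    simp [pm]

end Cfsg.Lib.U20
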