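import Cfsg.Agent.U20.Bulk

/-! Involutions acting on the module of dimension twenty; links with the codes. -/

set_option autoImplicit false

namespace Cfsg.Lib.U20

open Matrix Cfsg.Lib.Spor

/-- The two automorphisms of the field. -/
def sg (e : Bool) : GF4 →+* GF4 := Bool.rec (RingHom.id _) cj e

theorem sg_sg (e : Bool) (a : GF4) : sg e (sg e a) = a := by revert e a; decide

/-- A semilinear map on the module. -/
def XX (g : Mt) (e : Bool) (w : MM) : MM := act g (sg e ∘ w)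

theorem XX_add (g : Mt) (e : Bool) (w w' : MM) : XX g e (w + w') = XX g e w + XX g e w' := by
  rw [XX, XX, XX, ← act_add]
  congr 1
  funext i; exact map_add _ _ _

theorem XX_zero (g : Mt) (e : Bool) : XX g e 0 = 0 := by
  have := XX_add g e 0 0
  rw [add_zero, mm_add_self] at this
  exact this

/-- Special unitary matrices. -/
def SUn (g : Mt) : Prop := Un g ∧ g.det = 1

theorem SUn.mul {g h : Mt} (a : SUn g) (b : SUn h) : SUn (g * h) :=
  ⟨a.1.mul b.1, by rw [det_mul, a.2, b.2, one_mul]⟩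

theorem Un.det_ad {g : Mt} (a : Un g) : (U20.ad g).det * g.det = 1 := by
  rw [← det_mul, a.ad_mul, det_one]

theorem SUn.ad {g : Mt} (a : SUn g) : SUn (ad g) := ⟨a.1.ad, by simpa [a.2] using a.1.det_ad⟩

theorem SUn.conj {g s : Mt} (a : SUn s) (b : Un g) : SUn (U20.ad g * s * g) :=
  ⟨(b.ad.mul a.1).mul b, by rw [det_mul, det_mul, a.2, mul_one, b.det_ad]⟩

/-- Elements of order three. -/
def O3 (s : Mt) : Prop := SUn s ∧ s * s * s = 1 ∧ ∃ w, act s w ≠ w

theorem O3.conj {g s : Mt} (a : O3 s) (b : Un g) : O3 (ad g * s * g) := by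
  obtain ⟨a1, a2, w, a3⟩ := a
  refine ⟨a1.conj b, ?_, act (ad g) w, fun e => a3 ?_⟩
  · simp only [Matrix.mul_assoc] at a2 ⊢
    rw [← Matrix.mul_assoc g, b.mul_ad, Matrix.one_mul, ← Matrix.mul_assoc g, b.mul_ad, Matrix.one_mul,
      ← Matrix.mul_assoc s s g, ← Matrix.mul_assoc s _ g, a2, Matrix.one_mul, b.ad_mul]
  · rw [act_mul _ b, act_mul _ a1.1, b.act_ad'] at e
    rw [← b.act_ad' (act s w), e, b.act_ad']

/-- Commuting with a semilinear map. -/
def Cen (g : Mt) (e : Bool) (s : Mt) : Prop := g * s.map (sg e) = s * g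

instance (g : Mt) (e : Bool) (s : Mt) : Decidable (Cen g e s) := inferInstanceAs (Decidable (_ = _))

theorem ad_map (σ : GF4 →+* GF4) (c : Mt) : (ad c).map σ = ad (c.map σ) := by
  ext i j; exact (cj_comm σ _).symm

section

variable {g c s : Mt} {e : Bool} {w w0 : MM}

theorem Cen.mul (a : Cen g e c) (b : Cen g e s) : Cen g e (c * s) := by
  rw [Cen, Matrix.map_mul, ← Matrix.mul_assoc, a, Matrix.mul_assoc, b, Matrix.mul_assoc]

theorem Cen.ad (a : Cen g e c) (h : Un c) : Cen g e (ad c) := by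
  rw [Cen, ad_map, ← Matrix.one_mul (g * _), ← h.ad_mul, Matrix.mul_assoc, ← Matrix.mul_assoc c, ← a,
    Matrix.mul_assoc g, (h.map _).mul_ad, Matrix.mul_one]

theorem Cen.act (a : Cen g e c) (hg : Un g) (h : Un c) (w : MM) :
    XX g e (act c w) = act c (XX g e w) := by
  rw [XX, XX, ← act_map, ← act_mul _ (h.map _), a, act_mul _ hg]

/-- The coset element is centralised by an element of order three. -/
def Good (g : Mt) (e : Bool) (w : MM) : Prop :=
  ∃ s a, O3 s ∧ Cen g e s ∧ act s (w + (a + XX g e a)) = w + (a + XX g e a)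

theorem Good.of (h : O3 s) (k : Cen g e s) (q : act s w = w) : Good g e w :=
  ⟨s, 0, h, k, by rwa [XX_zero, add_zero, add_zero]⟩

theorem tr_aux (g : Mt) (e : Bool) (w a b : MM) : w + (b + a + XX g e (b + a)) =
    w + (b + XX g e b) + (a + XX g e a) := by rw [XX_add]; abel

theorem Good.tr {b : MM} (h : Good g e (w + (b + XX g e b))) : Good g e w := by
  obtain ⟨s, a, h1, h2, h3⟩ := h
  exact ⟨s, b + a, h1, h2, by rwa [tr_aux]⟩

theorem conj_aux (hg : Un g) (hc : Un c) (k : Cen g e c) (w a : MM) :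
    w + (act (ad c) a + XX g e (act (ad c) a)) = act (ad c) (act c w + (a + XX g e a)) := by
  rw [act_add, act_add, hc.act_ad, (k.ad hc).act hg hc.ad]

theorem Good.conj (hg : Un g) (hc : SUn c) (k : Cen g e c) (h : Good g e (XX c false w)) :
    Good g e w := by
  obtain ⟨s, a, h1, h2, h3⟩ := h
  refine ⟨ad c * s * c, act (ad c) a, h1.conj hc.1, ((k.ad hc.1).mul h2).mul k, ?_⟩
  rw [conj_aux hg hc.1 k, act_mul _ hc.1, hc.1.act_ad', act_mul _ h1.1.1]
  exact congrArg _ h3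

theorem fix_conj (hc : SUn c) (h : ∃ s, O3 s ∧ act s (XX c false w) = XX c false w) :
    ∃ s, O3 s ∧ act s w = w := by
  obtain ⟨s, h1, h3⟩ := h
  refine ⟨ad c * s * c, h1.conj hc.1, ?_⟩
  rw [act_mul _ hc.1, act_mul _ h1.1.1]
  exact (congrArg _ h3).trans (hc.1.act_ad w)

/-- The class of a given coset element. -/
def Orb (g : Mt) (w0 w : MM) : Prop :=
  ∃ c a, SUn c ∧ Cen g false c ∧ w + (a + XX g false a) = act c w0

theorem Orb.self : Orb g w0 w0 :=
  ⟨1, 0, ⟨Un.one, det_one⟩, by simp [Cen], by rw [XX_zero, add_zero, add_zero, act_one]⟩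

theorem Orb.tr {b : MM} (h : Orb g w0 (w + (b + XX g false b))) : Orb g w0 w := by
  obtain ⟨s, a, h1, h2, h3⟩ := h
  exact ⟨s, b + a, h1, h2, by rwa [tr_aux]⟩

theorem Orb.conj (hg : Un g) (hc : SUn c) (k : Cen g false c) (h : Orb g w0 (XX c false w)) :
    Orb g w0 w := by
  obtain ⟨s, a, h1, h2, h3⟩ := h
  refine ⟨ad c * s, act (ad c) a, hc.ad.mul h1, (k.ad hc.1).mul h2, ?_⟩
  rw [conj_aux hg hc.1 k, act_mul _ h1.1]
  exact congrArg _ h3

end

/-- A coded matrix. -/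
def mat (c : ℕ) : Mt := fun i j =>
  GF4.ofN (Nat.shiftRight c (Nat.mul 2 (Nat.add (Nat.mul 6 i.val) j.val)))

/-- The determinant. -/
def dt (A : Mt) : GF4 := ∑ T : Fin 20, m3 (t1 T) (t2 T) (t3 T) (A 0) (A 1) (A 2) *
    m3 (t1 T.rev) (t2 T.rev) (t3 T.rev) (A 3) (A 4) (A 5)

theorem sun_of {g : Mt} (h : Un g ∧ dt g = 1) : SUn g := ⟨h.1, (det_eq g).trans h.2⟩

/-- The standard involutions. -/
def pr : Fin 4 → Fin 6 → Fin 6 :=
  ![![0, 1, 2, 3, 4, 5], ![1, 0, 2, 3, 4, 5], ![1, 0, 3, 2, 4, 5], ![1, 0, 3, 2, 5, 4]]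

/-- Their matrices. -/
def pm (r : Fin 4) : Mt := fun i j => if i = pr r j then 1 else 0

theorem su_pm (r : Fin 4) : SUn (pm r) := sun_of (by revert r; decide +kernel)

/-- The code represents the semilinear map. -/
def Lin (g : Mt) (e : Bool) (c : ℕ) : Prop :=
  ok c = true ∧ ∀ n < 2 ^ 20, dec (ap c n) = XX g e (dec n)

theorem dec_pow : ∀ (i : Fin 10) (b : Fin 2) (e : Bool), sg e ∘ dec (2 ^ (2 * i.val + b.val)) =
    Pi.single i (sg e (GF4.ofN (b.val + 1))) := by decide +kernel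

theorem lin_of {g : Mt} {e : Bool} {c : ℕ} (hd : g.det = 1) (hc : ok c = true)
    (h : ∀ (i : Fin 10) (b : Fin 2), dec (ap c (2 ^ (2 * i.val + b.val))) = fun j =>
      C3 g (lo j) (lo i) * sg e (GF4.ofN (b.val + 1)) +
        C3 g (lo j) (lo i).rev * cj (sg e (GF4.ofN (b.val + 1)))) : Lin g e c := by
  have hx : ∀ a b, ap c (a ^^^ b) = ap c a ^^^ ap c b := apN_xor hc
  refine ⟨hc, xor_ind ?_ (fun a b ha hb => ?_) fun k hk => ?_⟩
  · rw [show ap c 0 = 0 by simpa using hx 0 0, dec_zero, XX_zero]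
  · rw [hx, dec_xor, dec_xor, XX_add, ha, hb]
  · have := h ⟨k / 2, by omega⟩ ⟨k % 2, by omega⟩
    have q := dec_pow ⟨k / 2, by omega⟩ ⟨k % 2, by omega⟩ e
    simp only [Nat.div_add_mod] at this q
    rw [this, XX, q]
    funext j
    simp only [act, hd, one_mul, mulVec, dotProduct, sum_split, ex_rev, ex_lo]
    rw [Finset.sum_eq_single ⟨k / 2, by omega⟩ (fun b _ hb => by simp [hb]) (by simp),
      Finset.sum_eq_single ⟨k / 2, by omega⟩ (fun b _ hb => by simp [hb]) (by simp)]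
    simp

theorem o3_of {s : Mt} {c : ℕ} (h : SUn s) (k : Lin s false c) (n : ℕ)
    (q : s * s * s = 1 ∧ n < 2 ^ 20 ∧ dec (ap c n) ≠ dec n) : O3 s :=
  ⟨h, q.1, dec n, fun e => q.2.2 ((k.2 n q.2.1).trans e)⟩

theorem sat_span (Y : AddSubgroup MM) (L : List ℕ) (h : ∀ a ∈ L, dec (a % 2 ^ 20) ∈ Y) :
    Sat (rT TB L (Nat.shiftLeft 1 0)) fun n => dec n ∈ Y :=
  Sat.rT (Sat.pt (a := 0) (dec_zero ▸ Y.zero_mem)) fun a ha n _ k => by
    rw [dec_xor] at k
    exact (Y.add_mem_cancel_right (h a ha)).1 k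

theorem sat_fix {s : Mt} {c : ℕ} (k : Lin s false c) (L : List ℕ)
    (h : ∀ a ∈ L, ap c (a % 2 ^ 20) = a % 2 ^ 20) :
    Sat (rT TB L (Nat.shiftLeft 1 0)) fun n => act s (dec n) = dec n :=
  sat_span ⟨⟨⟨{w | act s w = w}, fun {a b} (ha : _ = _) (hb : _ = _) => by
    show _ = _; rw [act_add, ha, hb]⟩, act_zero s⟩, fun {a} ha => ha⟩ L fun a ha =>
      (k.2 _ (Nat.mod_lt _ (by norm_num))).symm.trans (congrArg dec (h a ha))

theorem Lin.tr {g : Mt} {e : Bool} {c S : ℕ} (k : Lin g e c) {P : MM → Prop}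
    (hP : ∀ w b, P (w + (b + XX g e b)) → P w) (L : List ℕ)
    (h : ∀ a ∈ L, ∃ i : Fin 20, a % 2 ^ 20 = 2 ^ i.val ^^^ ap c (2 ^ i.val))
    (hS : Sat S fun n => P (dec n)) : Sat (rT TB L S) fun n => P (dec n) :=
  Sat.rT hS fun a ha n _ q => by
    obtain ⟨i, hi⟩ := h a ha
    rw [hi, dec_xor, dec_xor, k.2 _ (Nat.pow_lt_pow_right (by norm_num) i.2)] at q
    exact hP _ _ q

theorem Lin.fin {g : Mt} {e : Bool} {c S : ℕ} (k : Lin g e c) {P : MM → Prop}
    (hS : Sat S fun n => P (dec n)) (q : Nat.beq (Nat.lor S (nfx TB c 20)) (nt TB 20) = true)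
    (w : MM) (hw : XX g e w = w) : P w := by
  obtain ⟨n, hn, rfl⟩ := exists_dec w
  exact hS.fix k.1 q n hn (dec_inj (apN_lt k.1 hn) hn ((k.2 n hn).trans hw))

theorem Lin.two {c d : Mt} {x y S : ℕ} (kc : Lin c false x) (kd : Lin d false y) (P : MM → Prop)
    (hc : ∀ w, P (XX c false w) → P w) (hd : ∀ w, P (XX d false w) → P w) (L : List ℕ)
    (h : ∀ a ∈ L, a < 2) (hS : Sat S fun n => P (dec n)) :
    Sat (rL TB [x, y] L S) fun n => P (dec n) :=
  Sat.rL hS fun a ha => by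
    have := h a ha
    interval_cases a
    · exact ⟨kc.1, fun n hn q => hc _ (kc.2 n hn ▸ q)⟩
    · exact ⟨kd.1, fun n hn q => hd _ (kd.2 n hn ▸ q)⟩

end Cfsg.Lib.U20
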