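import Cfsg.Agent.U20.Id
import Cfsg.Agent.U20.Inv
import Cfsg.Agent.U20.Fin

/-! Involutions of `2^20 : U6(2)` and `2^20 : U6(2) : 2`. -/

set_option autoImplicit false

namespace Cfsg.Lib.U20

open Matrix Cfsg Cfsg.Lib.Spor

theorem ad_ad (g : Mt) : ad (ad g) = g := by ext i j; exact cj_cj _

theorem map_false (g : Mt) : g.map (sg false) = g := rfl

theorem tr_aux2 {g g0 P : Mt} {e : Bool} (hP : Un P) (k : g * P.map (sg e) = P * g0) :
    g0 * ad (P.map (sg e)) = ad P * g := by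
  rw [← Matrix.one_mul (g0 * _), ← hP.ad_mul, Matrix.mul_assoc, ← Matrix.mul_assoc P, ← k,
    Matrix.mul_assoc g, (hP.map _).mul_ad, Matrix.mul_one]

theorem XX_ad {g g0 P : Mt} {e : Bool} (hg : Un g) (hP : Un P) (k : g * P.map (sg e) = P * g0)
    (w : MM) : XX g0 e (act (ad P) w) = act (ad P) (XX g e w) := by
  rw [XX, XX, ← act_map, ← act_mul _ (hP.ad.map _), ad_map, tr_aux2 hP k, act_mul _ hg]

theorem Good.trans {g g0 P : Mt} {e : Bool} {w : MM} (hg : Un g) (hP : Un P)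
    (k : g * P.map (sg e) = P * g0) (h : Good g0 e (act (ad P) w)) : Good g e w := by
  obtain ⟨s, a, h1, h2, h3⟩ := h
  refine ⟨ad (ad P) * s * ad P, act P a, h1.conj hP.ad, ?_, ?_⟩
  · rw [Cen, ad_ad, Matrix.map_mul, Matrix.map_mul, ← Matrix.mul_assoc, ← Matrix.mul_assoc, k,
      Matrix.mul_assoc P, h2, ad_map]
    simp only [Matrix.mul_assoc, tr_aux2 hP k]
  · have : act (ad P) (w + (act P a + XX g e (act P a))) = act (ad P) w + (a + XX g0 e a) := by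
      rw [act_add, act_add, ← XX_ad hg hP k, hP.act_ad]
    rw [act_mul _ hP.ad, this, act_mul _ h1.1.1, h3, ← this, ad_ad, hP.act_ad']

variable {X : Type*} [Group X]

/-- The configuration. -/
structure St (A H K : Subgroup X) (ι : PP →* X) (θ : MM → X) : Prop extends Fr A ι θ where
  ιinj : Function.Injective ι
  ιK : ∀ p, ι p ∈ K
  nrm : ∀ x ∈ K, ∀ p, ∃ q, x * ι p * x⁻¹ = ι q
  cent : ∀ x ∈ K, (∀ p, x * ι p * x⁻¹ = ι p) → x = 1
  KH : K ≤ H
  AH : A ≤ H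
  hn : ∀ h ∈ H, ∀ a ∈ A, h * a * h⁻¹ ∈ A
  spl : ∀ h ∈ H, ∃ w, ∃ x ∈ K, h = θ w * x
  disj : ∀ x ∈ K, x ∈ A → x = 1

/-- The semilinear map that represents an element. -/
structure Rp (ι : PP →* X) (θ : MM → X) (x : X) (g : Mt) (e : Bool) : Prop where
  un : Un g
  mod : ∀ w, θ (XX g e w) = x * θ w * x⁻¹
  grp : ∀ s s', sm s' * g = g * (sm s).map (sg e) → x * ι (pk s) * x⁻¹ = ι (pk s')

/-- Centralised by an element of order three. -/
def T3 (H : Subgroup X) (u : X) : Prop := ∃ τ ∈ H, orderOf τ = 3 ∧ τ * u = u * τ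

theorem T3.conj {H : Subgroup X} {u h : X} (hh : h ∈ H) (k : T3 H (h * u * h⁻¹)) : T3 H u := by
  obtain ⟨τ, a, b, c⟩ := k
  refine ⟨h⁻¹ * τ * h, mul_mem (mul_mem (inv_mem hh) a) hh, ?_, ?_⟩
  · rw [← b, ← MulEquiv.orderOf_eq (MulAut.conj h⁻¹) τ]; simp
  · calc _ = h⁻¹ * (τ * (h * u * h⁻¹)) * h := by group
      _ = _ := by rw [c]; group

variable {A H K : Subgroup X} {ι : PP →* X} {θ : MM → X} {x y : X} {g g' : Mt} {e e' : Bool}

theorem sg_xor (e e' : Bool) (a : Spor.GF4) : sg (xor e e') a = sg e (sg e' a) := by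
  revert e e' a; decide

theorem Rp.mul (a : Rp ι θ x g e) (b : Rp ι θ y g' e') :
    Rp ι θ (x * y) (g * g'.map (sg e)) (xor e e') := by
  refine ⟨a.un.mul (b.un.map _), fun w => ?_, fun s s' q => ?_⟩
  · rw [XX, act_mul _ (b.un.map _), show sg (xor e e') ∘ w = sg e ∘ sg e' ∘ w from
      funext fun i => sg_xor e e' _, act_map]
    exact (a.mod _).trans (by rw [show act g' _ = XX g' e' w from rfl, b.mod]; group)
  · have q1 : sm (mkS _ (((sm_sun s).map (sg e')).conj' b.un)) * g' = g' * (sm s).map (sg e') := by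
      rw [sm_mkS, Matrix.mul_assoc, b.un.ad_mul, Matrix.mul_one]
    have q2 : sm s' * g = g * (sm (mkS _ (((sm_sun s).map (sg e')).conj' b.un))).map (sg e) := by
      rw [← Matrix.mul_one (sm s' * g), ← (b.un.map (sg e)).mul_ad, ← Matrix.mul_assoc,
        Matrix.mul_assoc _ g, q, sm_mkS, Matrix.map_mul, Matrix.map_mul, ad_map,
        show (sm s).map (sg (xor e e')) = ((sm s).map (sg e')).map (sg e) by
          ext i j; exact sg_xor e e' _]
      simp only [Matrix.mul_assoc]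
    rw [← a.grp _ s' q2, ← b.grp _ _ q1]
    group

theorem Rp.smul (a : Rp ι θ x g e) {c : Spor.GF4} (hc : c ^ 3 = 1) : Rp ι θ x (c • g) e :=
  ⟨a.un.smul hc, fun w => by rw [XX, act_smul hc]; exact a.mod w, fun s s' q => a.grp s s' (by
    rw [Matrix.mul_smul, Matrix.smul_mul] at q
    exact smul_right_injective _ (by rintro rfl; exact absurd hc (by decide)) q)⟩

theorem Fr.rp (h : Fr A ι θ) (s : SS) : Rp ι θ (ι (pk s)) (sm s) false :=
  ⟨(sm_sun s).1, h.act s, fun t t' q => by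
    rw [mul_inv_eq_iff_eq_mul, ← map_mul, ← map_mul]
    exact congrArg (fun z => ι (pk z)) (sm_inj q.symm)⟩

theorem Fr.comm (h : Fr A ι θ) (w w' : MM) : θ w * θ w' = θ w' * θ w := by
  rw [← h.add, add_comm, h.add]

theorem Fr.inv (h : Fr A ι θ) (w : MM) : (θ w)⁻¹ = θ w :=
  inv_eq_of_mul_eq_one_right (by rw [← h.add, mm_add_self, h.zero])

theorem Fr.tr (h : Fr A ι θ) (r : Rp ι θ x g e) (a w : MM) :
    θ a * (θ w * x) * (θ a)⁻¹ = θ (w + (a + XX g e a)) * x := by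
  rw [h.add, h.add, r.mod, h.inv, ← mul_assoc, h.comm a w]; group

theorem Fr.o3 (h : Fr A ι θ) {s : Mt} (k : O3 s) : orderOf (ι (pk (mkS s k.1))) = 3 := by
  have : Fact (Nat.Prime 3) := ⟨Nat.prime_three⟩
  obtain ⟨w, hw⟩ := k.2.2
  refine orderOf_eq_prime ?_ fun q => hw (h.inj ?_)
  · rw [← map_pow, ← QuotientGroup.mk_pow, show mkS s k.1 ^ 3 = 1 from
      sm_inj (by rw [pow_three', sm_mul, sm_mul]; exact k.2.1), QuotientGroup.mk_one, map_one]
  · rw [← sm_mkS s k.1, h.act, q]; simp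

namespace St

variable (h : St A H K ι θ)
include h

theorem ιH (p : PP) : ι p ∈ H := h.KH (h.ιK p)

theorem θH (w : MM) : θ w ∈ H := h.AH (h.mem w)

theorem exists_rp (hx : x ∈ K) : ∃ g e, Rp ι θ x g e := by
  choose f hf using h.nrm x hx
  let β : PP →* PP := MonoidHom.mk' f fun a b => h.ιinj (by
    rw [map_mul, ← hf, ← hf, ← hf, map_mul]; group)
  have hb : Function.Injective β := fun a b q => h.ιinj (by
    have : x * ι a * x⁻¹ = x * ι b * x⁻¹ := by rw [hf, hf]; exact congrArg ι q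
    simpa using this)
  obtain ⟨g, e, a, b, c⟩ := h.toFr.aut (x := x)
    (fun a ha => by simpa using h.hn _ (inv_mem (h.KH hx)) a ha)
    (MulEquiv.ofBijective β (Finite.injective_iff_bijective.1 hb)) hf
  exact ⟨g, e, a, b, c⟩

theorem eq_of_rp (hx : x ∈ K) (r : Rp ι θ x g false) (hg : SUn g) : x = ι (pk (mkS g hg)) := by
  refine (inv_mul_eq_one.1 (h.cent _ (mul_mem (inv_mem (h.ιK _)) hx) fun p => ?_)).symm
  obtain ⟨s, rfl⟩ := QuotientGroup.mk_surjective p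
  have q : sm (mkS _ ((sm_sun s).conj' hg.1)) * g = g * (sm s).map (sg false) := by
    rw [sm_mkS, Matrix.mul_assoc, hg.1.ad_mul, Matrix.mul_one]; rfl
  have h1 := r.grp _ _ q
  have h2 := (h.toFr.rp (mkS g hg)).grp _ _ q
  calc _ = (ι (pk (mkS g hg)))⁻¹ * (x * ι (pk s) * x⁻¹) * ι (pk (mkS g hg)) := by group
    _ = _ := by rw [h1, ← h2]; group

theorem t3_A {a : X} (ha : a ∈ A) : T3 H a := by
  obtain ⟨w, rfl⟩ := h.surj a ha
  obtain ⟨s, h1, h2⟩ := fixA w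
  refine ⟨_, h.ιH _, h.o3 h1, mul_inv_eq_iff_eq_mul.1 ?_⟩
  rw [← h.act, sm_mkS, h2]

theorem t3_of_good (r : Rp ι θ x g e) {w : MM} (k : Good g e w) : T3 H (θ w * x) := by
  obtain ⟨s, a, h1, h2, h3⟩ := k
  refine T3.conj (h.θH a) ⟨_, h.ιH _, h.o3 h1, ?_⟩
  have q := r.grp (mkS s h1.1) (mkS s h1.1) h2.symm
  have q2 := h.act (mkS s h1.1) (w + (a + XX g e a))
  rw [sm_mkS, h3] at q2
  rw [h.tr r, ← mul_assoc, mul_assoc _ x, mul_inv_eq_iff_eq_mul.1 q, ← mul_assoc,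
    mul_inv_eq_iff_eq_mul.1 q2.symm]

theorem qf_conj {k : X} (hk : k ∈ H) {w w' : MM} (q : k * θ w * k⁻¹ = θ w') (h1 : qf w = 1) :
    qf w' = 1 := by
  obtain ⟨a, x, hx, rfl⟩ := h.spl k hk
  obtain ⟨g, e, r⟩ := h.exists_rp hx
  have : θ w' = θ (XX g e w) := by
    rw [← q]
    calc _ = θ a * (x * θ w * x⁻¹) * (θ a)⁻¹ := by group
      _ = _ := by rw [← r.mod, h.comm]; group
  rw [h.inj this, XX, r.un.qf_act, qf_map, h1, map_one]

theorem span_aux {W : MM → Prop} {Y : Subgroup X}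
    (h0 : ∀ Y : AddSubgroup MM, (∀ w, W w → qf w = 0 → w ∈ Y) → ∀ w, W w → w ∈ Y)
    (h1 : ∀ Y : AddSubgroup MM, (∀ w, W w → qf w = 1 → w ∈ Y) → ∀ w, W w → w ∈ Y)
    (k : ∀ w w', W w → W w' → θ w ∉ Y → θ w' ∉ Y → ∃ z ∈ H, z * θ w * z⁻¹ = θ w') :
    ∀ w, W w → θ w ∈ Y := by
  let Y' : AddSubgroup MM := ⟨⟨⟨{w | θ w ∈ Y}, fun {a b} (ha : θ a ∈ Y) (hb : θ b ∈ Y) => by
    show θ _ ∈ Y; rw [h.add]; exact mul_mem ha hb⟩, by show θ _ ∈ Y; rw [h.zero]; exact one_mem _⟩,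
    fun {a} ha => ha⟩
  by_cases q : ∀ w, W w → qf w = 1 → θ w ∈ Y
  · exact h1 Y' q
  · push Not at q
    obtain ⟨w1, a1, a2, a3⟩ := q
    refine h0 Y' fun w b1 b2 => by_contra fun b3 => ?_
    obtain ⟨z, hz, e⟩ := k w1 w a1 b1 a3 b3
    exact zero_ne_one (b2.symm.trans (h.qf_conj hz e a2))

theorem le_of_conj {Y : Subgroup X}
    (k : ∀ a ∈ A, ∀ a' ∈ A, a ∉ Y → a' ∉ Y → ∃ z ∈ H, z * a * z⁻¹ = a') : A ≤ Y := fun a ha => by
  obtain ⟨w, rfl⟩ := h.surj a ha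
  exact h.span_aux (W := fun _ => True) (fun Y q w _ => spanA0 Y (fun w => q w trivial) w)
    (fun Y q w _ => spanA1 Y (fun w => q w trivial) w)
    (fun w w' _ _ => k _ (h.mem w) _ (h.mem w')) w trivial

theorem nf_inv (hx : x ∈ K) (h2 : x * x = 1) :
    ∃ g e, Rp ι θ x g e ∧ g * g.map (sg e) = 1 ∧ (e = false → g.det = 1) := by
  obtain ⟨g, e, r, hd⟩ : ∃ g e, Rp ι θ x g e ∧ (e = false → g.det = 1) := by
    obtain ⟨g, e, r⟩ := h.exists_rp hx
    cases e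
    · have := (r.mul r).mul r
      rw [h2, one_mul] at this
      exact ⟨_, _, this, fun _ => by rw [← r.un.det, pow_three', ← det_mul, ← det_mul]; rfl⟩
    · exact ⟨g, true, r, by simp⟩
  have r2 := r.mul r
  rw [h2, Bool.xor_self] at r2
  have s2 : SUn (g * g.map (sg e)) := ⟨r2.un, by
    rw [det_mul, ← RingHom.mapMatrix_apply, ← RingHom.map_det]
    cases e
    · rw [hd rfl, map_one, one_mul]
    · rw [← r.un.det, pow_three]; rfl⟩
  obtain ⟨c, h3, h4⟩ := pk_eq (s := 1) (h.ιinj ((map_one ι).trans (h.eq_of_rp K.one_mem r2 s2)))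
  rw [sm_mkS, sm_one] at h4
  cases e
  · refine ⟨_, _, r.smul h3, ?_, fun _ => ?_⟩
    · show c • g * c • g = 1
      rw [Matrix.mul_smul, Matrix.smul_mul, show g * g = _ from h4, smul_smul, smul_smul,
        ← pow_three', h3, one_smul]
    · rw [det_smul, hd rfl, mul_one, Fintype.card_fin, show c ^ 6 = (c ^ 3) ^ 2 by ring, h3, one_pow]
  · refine ⟨g, true, r, ?_, by simp⟩
    have h5 : g.map cj * g = cj c • 1 := by
      have := congrArg (fun z => z.map cj) h4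
      simp only [Matrix.map_mul] at this
      rw [show (g.map (sg true)).map cj = g from map_map_cj g] at this
      rw [this]
      ext i j; by_cases q : i = j <;> simp [q, one_apply]
    have h6 : c • g = cj c • g := by
      rw [← Matrix.mul_one (cj c • g), Matrix.smul_mul, ← Matrix.mul_smul, ← h5, ← Matrix.mul_assoc,
        show g * g.map cj = _ from h4, Matrix.smul_mul, Matrix.one_mul]
    have h7 := congrArg (fun z => (ad g * z) 0 0) h6
    simp only [Matrix.mul_smul, r.un.ad_mul, Matrix.smul_apply, one_apply_eq, smul_eq_mul,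
      mul_one] at h7
    rw [h4, (by decide : ∀ c : Spor.GF4, c ^ 3 = 1 → c = cj c → c = 1) c h3 h7, one_smul]

end St

/-- The exceptional involution. -/
def bad (ι : PP →* X) (θ : MM → X) : X := θ (dec 80) * ι (pk (mkS _ (su_pm 2)))

theorem dg_facts : ∀ c : Spor.GF4, c ^ 3 = 1 → Un (diagonal ![1, 1, 1, 1, 1, c]) ∧
    diagonal ![1, 1, 1, 1, 1, c] * pm 2 = pm 2 * diagonal ![1, 1, 1, 1, 1, c] := by decide +kernel

namespace St

variable (h : St A H K ι θ)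
include h

theorem invol {u : X} (hu : u ∈ H) (hA : u ∉ A) (h2 : u * u = 1) :
    T3 H u ∨ ∃ z ∈ H, z * u * z⁻¹ = bad ι θ := by
  obtain ⟨w, x, hx, rfl⟩ := h.spl u hu
  have e1 : θ w * (x * θ w * x⁻¹) * (x * x) = 1 := by rw [← h2]; group
  have x2 : x * x = 1 := h.disj _ (mul_mem hx hx) (by
    rw [← inv_mem_iff, ← eq_inv_of_mul_eq_one_left e1]
    exact mul_mem (h.mem w) (h.hn _ (h.KH hx) _ (h.mem w)))
  obtain ⟨g, e, r, g2, gd⟩ := h.nf_inv hx x2
  have hw : XX g e w = w := h.inj (by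
    rw [x2, mul_one] at e1
    rw [r.mod, ← inv_eq_of_mul_eq_one_right e1, h.inv])
  obtain ⟨P, i, hP, q⟩ := exists_nf r.un g2
  by_cases c : e = false → i ≠ 0 ∧ i ≠ 2
  · exact .inl (h.t3_of_good r (Good.trans r.un hP q (good e i c _ (by rw [XX_ad r.un hP q, hw]))))
  obtain ⟨rfl, c'⟩ := Classical.not_imp.1 c
  have sg : SUn g := ⟨r.un, gd rfl⟩
  have ex := h.eq_of_rp hx r sg
  replace q : g * P = P * pm i := q
  by_cases c0 : i = 0
  · subst c0
    rw [show pm 0 = 1 by decide +kernel, Matrix.mul_one] at q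
    have : mkS g sg = 1 := sm_inj (by
      rw [sm_mkS, sm_one, ← Matrix.mul_one g, ← hP.mul_ad, ← Matrix.mul_assoc, q])
    rw [this] at ex
    exact absurd (by rw [ex.trans (map_one ι), mul_one]; exact h.mem w) hA
  obtain rfl : i = 2 := by by_contra c2; exact c' ⟨c0, c2⟩
  obtain ⟨d1, d2⟩ := dg_facts (P.det ^ 2) (by rw [← pow_mul, mul_comm, pow_mul, hP.det, one_pow])
  set D : Mt := diagonal ![1, 1, 1, 1, 1, P.det ^ 2] with hD
  have sP : SUn (P * D) := ⟨hP.mul d1, by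
    rw [det_mul, hD, det_diagonal, Fin.prod_univ_six]
    show _ * (1 * 1 * 1 * 1 * 1 * P.det ^ 2) = 1
    linear_combination hP.det⟩
  have q' : g * (P * D).map (U20.sg false) = P * D * pm 2 := by
    show g * (P * D) = _
    rw [← Matrix.mul_assoc, q, Matrix.mul_assoc, ← d2, Matrix.mul_assoc]
  rcases good02 (act (ad (P * D)) w) (by rw [XX_ad r.un sP.1 q', hw]) with k | ⟨c, a, k1, k2, k3⟩
  · exact .inl (h.t3_of_good r (Good.trans r.un sP.1 q' k))
  right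
  have r0 := h.toFr.rp (mkS _ (su_pm 2))
  have t1 := (h.toFr.rp (mkS _ sP.ad)).grp (mkS g sg) (mkS _ (su_pm 2)) (by
    simpa only [sm_mkS, map_false] using tr_aux2 sP.1 q')
  have t2 := h.act (mkS _ sP.ad) w
  have t3 := h.tr r0 a (act (ad (P * D)) w)
  have t4 := h.act (mkS _ k1) (dec 80)
  have t5 := r0.grp (mkS _ k1) (mkS _ k1) (by simpa only [sm_mkS] using Eq.symm k2)
  simp only [sm_mkS] at t2 t3 t4
  rw [k3, t4, t2] at t3
  rw [← ex] at t1
  refine ⟨(ι (pk (mkS _ k1)))⁻¹ * θ a * ι (pk (mkS _ sP.ad)),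
    mul_mem (mul_mem (inv_mem (h.ιH _)) (h.θH a)) (h.ιH _), ?_⟩
  rw [bad]
  generalize ι (pk (mkS _ k1)) = y1, ι (pk (mkS _ sP.ad)) = y2, ι (pk (mkS _ (su_pm 2))) = y0
    at t1 t3 t5 ⊢
  calc _ = y1⁻¹ * (θ a * (y2 * θ w * y2⁻¹ * (y2 * x * y2⁻¹)) * (θ a)⁻¹) * y1 := by group
    _ = θ (dec 80) * (y1⁻¹ * (y0 * y1 * y0⁻¹) * y0) := by rw [t1, t3]; group
    _ = _ := by rw [t5]; group

theorem bad_mem : bad ι θ ∈ H := mul_mem (h.θH _) (h.ιH _)

theorem comm_bad {w : MM} : θ w * bad ι θ = bad ι θ * θ w ↔ XX (pm 2) false w = w := by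
  have := (h.toFr.rp (mkS _ (su_pm 2))).mod w
  rw [sm_mkS] at this
  rw [← h.inj.eq_iff, this, bad, ← mul_assoc, h.comm, mul_assoc, mul_assoc, mul_right_inj,
    mul_inv_eq_iff_eq_mul, eq_comm]

theorem exists_good : ∃ a ∈ A, a * bad ι θ = bad ι θ * a ∧ T3 H (a * bad ι θ) ∧ a * bad ι θ ∉ A := by
  have e : θ (dec 80) * bad ι θ = θ 0 * ι (pk (mkS _ (su_pm 2))) := by
    rw [bad, ← mul_assoc, ← h.add, mm_add_self]
  refine ⟨_, h.mem (dec 80), h.comm_bad.2 fix_bad, e ▸ h.t3_of_good (h.toFr.rp _) good_zero, ?_⟩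
  rw [e, h.zero, one_mul]
  intro q
  obtain ⟨c, -, k⟩ := pk_eq (s := 1) (h.ιinj ((map_one ι).trans (h.disj _ (h.ιK _) q).symm))
  exact absurd (congrFun (congrFun k 0) 1) (by simp [sm_mkS, sm_one]; decide)

theorem le_of_conj' {Y : Subgroup X}
    (k : ∀ a ∈ A, ∀ a' ∈ A, a * bad ι θ = bad ι θ * a → a' * bad ι θ = bad ι θ * a' → a ∉ Y →
      a' ∉ Y → ∃ z ∈ H, z * a * z⁻¹ = a') {a : X} (ha : a ∈ A) (hc : a * bad ι θ = bad ι θ * a) :
    a ∈ Y := by
  obtain ⟨w, rfl⟩ := h.surj a ha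
  exact h.span_aux spanW0 spanW1 (fun w w' q q' => k _ (h.mem w) _ (h.mem w') (h.comm_bad.2 q)
    (h.comm_bad.2 q')) w (h.comm_bad.1 hc)

end St

end Cfsg.Lib.U20
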