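import Cfsg.Agent.U20.Poly
import Cfsg.Agent.Spor.GF4

/-! The real form of the exterior cube of the natural module of `GU6(2)`. -/

set_option autoImplicit false

namespace Cfsg.Lib.U20

open Matrix Cfsg.Lib.Spor

/-- Matrices of order six. -/
abbrev Mt := Matrix (Fin 6) (Fin 6) GF4

/-- The module. -/
abbrev MM := Fin 10 → GF4

/-- A packed table. -/
def tt (c : ℕ) (S : Fin 20) : Fin 6 := ⟨Nat.mod (Nat.land (Nat.shiftRight c (Nat.mul 4 S.val)) 7) 6,
  Nat.mod_lt _ (by norm_num)⟩

/-- First point of a triple. -/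
def t1 : Fin 20 → Fin 6 := tt 0x32221111110000000000
/-- Second point of a triple. -/
def t2 : Fin 20 → Fin 6 := tt 0x44334332224332221111
/-- Third point of a triple. -/
def t3 : Fin 20 → Fin 6 := tt 0x55545545435545435432

/-- The conjugation. -/
def cj : GF4 →+* GF4 where
  toFun a := a * a
  map_one' := by decide
  map_zero' := by decide
  map_add' := by decide
  map_mul' := by decide

theorem cj_apply (a : GF4) : cj a = a * a := rfl

theorem cj_cj (a : GF4) : cj (cj a) = a := by revert a; decide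

/-- The matrix of minors. -/
def C3 (g : Mt) : Matrix (Fin 20) (Fin 20) GF4 := fun S T =>
  m3 (t1 T) (t2 T) (t3 T) (g (t1 S)) (g (t2 S)) (g (t3 S))

theorem sum20 {R : Type*} [AddCommMonoid R] (f : Fin 20 → R) : ∑ i, f i =
    f 0 + f 1 + f 2 + f 3 + f 4 + f 5 + f 6 + f 7 + f 8 + f 9 + f 10 + f 11 + f 12 + f 13 + f 14 +
      f 15 + f 16 + f 17 + f 18 + f 19 := by
  simp only [Fin.sum_univ_castSucc, Fin.sum_univ_zero, zero_add]; rfl

theorem sum10 {R : Type*} [AddCommMonoid R] (f : Fin 10 → R) : ∑ i, f i =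
    f 0 + f 1 + f 2 + f 3 + f 4 + f 5 + f 6 + f 7 + f 8 + f 9 := by
  simp only [Fin.sum_univ_castSucc, Fin.sum_univ_zero, zero_add]; rfl

theorem C3_tr (g : Mt) : C3 gᵀ = (C3 g)ᵀ := by
  ext S T
  simp only [C3, m3, transpose_apply]; ring

theorem C3_mul (g h : Mt) : C3 (g * h) = C3 g * C3 h := by
  ext S T
  have e : ∀ U, C3 h U T = C3 hᵀ T U := fun U => by rw [C3_tr]; rfl
  have e2 : ∀ a b, (g * h) a b = dp (g a) (hᵀ b) := fun a b => by rw [mul_apply, ← dp_eq]; rfl
  rw [mul_apply]
  simp only [e]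
  rw [sum20]
  exact (by simp only [C3, m3, e2] : _ = _).trans
    (cb (g (t1 S)) (g (t2 S)) (g (t3 S)) (hᵀ (t1 T)) (hᵀ (t2 T)) (hᵀ (t3 T)))

theorem C3_map (σ : GF4 →+* GF4) (g : Mt) : C3 (g.map σ) = (C3 g).map σ := by
  ext S T
  simp only [C3, m3, map_apply, map_add, map_sub, map_mul]

theorem C3_smul (c : GF4) (g : Mt) : C3 (c • g) = c ^ 3 • C3 g := by
  ext S T
  simp only [C3, m3, Matrix.smul_apply, smul_eq_mul]; ring

theorem C3_one : C3 1 = 1 := by decide +kernel

theorem sub_eq (a b : GF4) : a - b = a + b := by rw [sub_eq_add_neg, GF4.neg_eq]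

theorem det_eq (A : Mt) : A.det = ∑ T : Fin 20, m3 (t1 T) (t2 T) (t3 T) (A 0) (A 1) (A 2) *
    m3 (t1 T.rev) (t2 T.rev) (t3 T.rev) (A 3) (A 4) (A 5) := by
  rw [sum20, lp]
  simp only [sub_eq]
  rfl

theorem lap (g : Mt) (S S' : Fin 20) :
    ∑ T, C3 g S T * C3 g S' T.rev = if S' = S.rev then g.det else 0 := by
  let f : Fin 6 → Fin 6 := ![t1 S, t2 S, t3 S, t1 S', t2 S', t3 S']
  have k : ∀ g : Mt, ∑ T, C3 g S T * C3 g S' T.rev = (g.submatrix f id).det := fun g => by
    rw [det_eq]; rfl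
  have e : g.submatrix f id = (1 : Mt).submatrix f id * g := by
    have := submatrix_mul_equiv (1 : Mt) g f (Equiv.refl _) id
    simpa using this.symm
  rw [k, e, det_mul, ← k, C3_one]
  simp only [one_apply]
  rw [Finset.sum_eq_single S (fun b _ hb => by simp [Ne.symm hb]) (by simp)]
  split_ifs <;> simp_all

/-- Unitary matrices. -/
def Un (g : Mt) : Prop := (g.map cj)ᵀ * g = 1

instance (g : Mt) : Decidable (Un g) := inferInstanceAs (Decidable (_ = _))

theorem map_map_cj {m n : Type*} (g : Matrix m n GF4) : (g.map cj).map cj = g := by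
  ext i j; exact cj_cj _

theorem Un.one : Un 1 := by simp [Un]

theorem Un.mul {g h : Mt} (a : Un g) (b : Un h) : Un (g * h) := by
  rw [Un, Matrix.map_mul, transpose_mul, Matrix.mul_assoc, ← Matrix.mul_assoc _ g, a, Matrix.one_mul, b]

/-- The adjoint. -/
def ad (g : Mt) : Mt := (g.map cj)ᵀ

theorem Un.ad_mul {g : Mt} (a : Un g) : ad g * g = 1 := a

theorem Un.mul_ad {g : Mt} (a : Un g) : g * ad g = 1 := mul_eq_one_comm.1 a

theorem Un.ad {g : Mt} (a : Un g) : Un (ad g) := by
  rw [Un, U20.ad, ← transpose_map, transpose_transpose, map_map_cj]; exact a.mul_ad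

theorem cj_comm (σ : GF4 →+* GF4) (a : GF4) : cj (σ a) = σ (cj a) := by simp [cj_apply]

theorem Un.map {g : Mt} (a : Un g) (σ : GF4 →+* GF4) : Un (g.map σ) := by
  have : (g.map σ).map cj = (g.map cj).map σ := by ext i j; exact cj_comm σ _
  rw [Un, this, ← transpose_map, ← Matrix.map_mul, a, Matrix.map_one _ σ.map_zero σ.map_one]

theorem Un.det {g : Mt} (a : Un g) : g.det ^ 3 = 1 := by
  have := congrArg Matrix.det a
  rw [det_mul, det_transpose, ← RingHom.mapMatrix_apply, ← RingHom.map_det, det_one, cj_apply] at this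
  rw [← this]; ring

theorem Un.smul {g : Mt} (a : Un g) {c : GF4} (hc : c ^ 3 = 1) : Un (c • g) := by
  have : (c • g).map cj = (c * c) • g.map cj := by
    ext i j; simp [cj_apply]; ring
  rw [Un, this, transpose_smul, smul_mul, mul_smul, Matrix.mul_smul, a, smul_smul, smul_smul,
    show c * c * c = 1 by rw [← hc]; ring, one_smul]

theorem Un.rev {g : Mt} (a : Un g) (S T : Fin 20) :
    C3 g S T.rev = g.det * cj (C3 g S.rev T) := by
  have h1 : (C3 g)ᵀ * (C3 g).map cj = 1 := by
    rw [← C3_tr, ← C3_map, ← C3_mul, ← C3_one]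
    congr 1
    have := congrArg (fun x => x.map cj) a
    simpa only [Matrix.map_mul, ← transpose_map, map_map_cj, Matrix.map_one _ cj.map_zero cj.map_one,
      transpose_map] using this
  have h2 : ∀ U T, ∑ S', C3 g S' U * cj (C3 g S' T) = if U = T then 1 else 0 := fun U T => by
    have := congrFun (congrFun h1 U) T
    rwa [mul_apply, one_apply] at this
  calc C3 g S T.rev = ∑ U, C3 g S U * ∑ S', C3 g S' U.rev * cj (C3 g S' T) := by
        simp only [h2]
        rw [Finset.sum_eq_single T.rev (fun b _ hb => by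
          rw [if_neg (fun e => hb (by rw [← e, Fin.rev_rev])), mul_zero]) (by simp)]
        simp
    _ = ∑ S', (∑ U, C3 g S U * C3 g S' U.rev) * cj (C3 g S' T) := by
        simp only [Finset.mul_sum, Finset.sum_mul, mul_assoc]
        exact Finset.sum_comm
    _ = _ := by
        simp only [lap]
        rw [Finset.sum_eq_single S.rev (fun b _ hb => by simp [hb]) (by simp)]
        simp

/-- The first ten triples. -/
def lo (i : Fin 10) : Fin 20 := ⟨i.val, by omega⟩

/-- The vector of all twenty coordinates. -/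
def ex (w : MM) : Fin 20 → GF4 := fun S =>
  if h : S.val < 10 then w ⟨S.val, h⟩ else cj (w ⟨19 - S.val, by omega⟩)

theorem ex_lo (w : MM) (i : Fin 10) : ex w (lo i) = w i := dif_pos i.2

theorem ex_rev (w : MM) (S : Fin 20) : ex w S.rev = cj (ex w S) := by
  have := S.2
  have e : S.rev.val = 19 - S.val := by rw [Fin.val_rev]; omega
  unfold ex
  by_cases h : S.val < 10
  · rw [dif_neg (by omega), dif_pos h]; congr 2; ext; simp only [e]; omega
  · rw [dif_pos (by omega), dif_neg h, cj_cj]; congr 1; ext; simp only [e]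

theorem ex_res {u : Fin 20 → GF4} (h : ∀ S, u S.rev = cj (u S)) : ex (fun i => u (lo i)) = u := by
  funext S
  unfold ex
  split_ifs with h1
  · rfl
  · rw [← h]; congr 1; ext; have := S.2; simp only [lo, Fin.val_rev]; omega

theorem ex_add (w w' : MM) : ex (w + w') = ex w + ex w' := by
  funext S
  simp only [ex, Pi.add_apply]
  split_ifs
  · rfl
  · exact map_add _ _ _

theorem ex_map (σ : GF4 →+* GF4) (w : MM) : ex (σ ∘ w) = σ ∘ ex w := by
  funext S
  simp only [ex, Function.comp]
  split_ifs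
  · rfl
  · exact cj_comm _ _

/-- The action. -/
def act (g : Mt) (w : MM) : MM := fun i => g.det * (C3 g *ᵥ ex w) (lo i)

theorem Un.ex_act {g : Mt} (a : Un g) (w : MM) : ex (act g w) = g.det • (C3 g *ᵥ ex w) := by
  refine ex_res (u := g.det • (C3 g *ᵥ ex w)) fun S => ?_
  simp only [Pi.smul_apply, smul_eq_mul, mulVec, dotProduct, map_mul, map_sum]
  rw [← Equiv.sum_comp Fin.revPerm]
  simp only [Fin.revPerm_apply, a.rev, ex_rev, Fin.rev_rev, Finset.mul_sum, cj_apply g.det, mul_assoc]

theorem act_mul (g : Mt) {h : Mt} (b : Un h) (w : MM) : act (g * h) w = act g (act h w) := by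
  funext i
  simp only [act]
  rw [b.ex_act, mulVec_smul, mulVec_mulVec, C3_mul, det_mul, Pi.smul_apply, smul_eq_mul, mul_assoc]

theorem act_add (g : Mt) (w w' : MM) : act g (w + w') = act g w + act g w' := by
  funext i
  simp only [act, ex_add, mulVec_add, Pi.add_apply, mul_add]

theorem act_one (w : MM) : act 1 w = w := by
  funext i
  simp [act, C3_one, ex_lo]

theorem act_smul {c : GF4} (hc : c ^ 3 = 1) (g : Mt) (w : MM) : act (c • g) w = act g w := by
  funext i
  simp only [act, C3_smul, hc, one_smul, det_smul, Fintype.card_fin]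
  rw [show c ^ 6 = (c ^ 3) ^ 2 by ring, hc, one_pow, one_mul]

theorem act_map (σ : GF4 →+* GF4) (g : Mt) (w : MM) : act (g.map σ) (σ ∘ w) = σ ∘ act g w := by
  funext i
  simp only [act, C3_map, ex_map, Function.comp, map_mul, mulVec, dotProduct, map_sum, map_apply]
  rw [← RingHom.mapMatrix_apply, ← RingHom.map_det]

theorem mm_add_self (w : MM) : w + w = 0 := funext fun i => GF4.add_self (w i)

theorem act_zero (g : Mt) : act g 0 = 0 := by
  have := act_add g 0 0
  rw [add_zero, mm_add_self] at this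
  exact this

theorem Un.act_ad {g : Mt} (a : Un g) (w : MM) : act (U20.ad g) (act g w) = w := by
  rw [← act_mul _ a, a.ad_mul, act_one]

theorem Un.act_ad' {g : Mt} (a : Un g) (w : MM) : act g (act (U20.ad g) w) = w := by
  rw [← act_mul _ a.ad, a.mul_ad, act_one]

/-- The quadratic form. -/
def qf (w : MM) : GF4 := ∑ i, w i * cj (w i)

theorem sum_split (f : Fin 20 → GF4) : ∑ S, f S = ∑ i, f (lo i) + ∑ i, f (lo i).rev := by
  rw [sum20, sum10, sum10]
  show _ = f 0 + f 1 + f 2 + f 3 + f 4 + f 5 + f 6 + f 7 + f 8 + f 9 +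
    (f 19 + f 18 + f 17 + f 16 + f 15 + f 14 + f 13 + f 12 + f 11 + f 10)
  ring

theorem alt_sum (D : Fin 20 → Fin 20 → GF4) (u : Fin 20 → GF4) (h0 : ∀ T, D T T = 0)
    (hs : ∀ T T', D T T' + D T' T = 0) : ∑ T, ∑ T', u T * u T' * D T T' = 0 := by
  rw [← Finset.sum_product']
  refine Finset.sum_involution (fun p _ => p.swap) (fun p _ => ?_) (fun p _ h e => h ?_)
    (fun _ _ => Finset.mem_univ _) (fun _ _ => rfl)
  · simp only [Prod.fst_swap, Prod.snd_swap]
    linear_combination u p.1 * u p.2 * hs p.1 p.2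
  · have : p.2 = p.1 := congrArg Prod.fst e
    rw [this, h0, mul_zero]

/-- A bilinear form that defines the quadratic form. -/
def nf (g : Mt) (T T' : Fin 20) : GF4 := ∑ i, C3 g (lo i) T * C3 g (lo i).rev T'

theorem nf_diag (g : Mt) (T : Fin 20) : nf g T T = 0 := by
  have e : ∀ U, C3 g U T = C3 gᵀ T U := fun U => by rw [C3_tr]; rfl
  have := pl (gᵀ (t1 T)) (gᵀ (t2 T)) (gᵀ (t3 T))
  simp only [sub_eq] at this
  simp only [nf, e]
  rw [sum10]
  exact this

theorem nf_sym (g : Mt) (T T' : Fin 20) :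
    nf g T T' + nf g T' T = if T' = T.rev then g.det else 0 := by
  rw [← det_transpose, ← lap, sum_split, C3_tr]
  simp only [nf, transpose_apply, Fin.rev_rev, mul_comm]

theorem nf_sum (g : Mt) (u : Fin 20 → GF4) : ∑ T, ∑ T', u T * u T' * nf g T T' =
    ∑ i, (C3 g *ᵥ u) (lo i) * (C3 g *ᵥ u) (lo i).rev := by
  simp only [nf, mulVec, dotProduct, Finset.sum_mul_sum]
  simp only [Finset.mul_sum]
  conv_rhs => rw [Finset.sum_comm]
  refine Finset.sum_congr rfl fun T _ => ?_
  rw [Finset.sum_comm]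
  exact Finset.sum_congr rfl fun _ _ => Finset.sum_congr rfl fun _ _ => by ring

theorem qf_eq (w : MM) : qf w = ∑ i, ex w (lo i) * ex w (lo i).rev := by
  simp only [qf, ex_rev, ex_lo]

theorem Un.qf_act {g : Mt} (a : Un g) (w : MM) : qf (act g w) = qf w := by
  have h := alt_sum (fun T T' => nf g T T' + g.det * nf 1 T T') (ex w)
    (fun T => by rw [nf_diag, nf_diag, mul_zero, add_zero]) (fun T T' => by
      have h1 := nf_sym g T T'
      have h2 := nf_sym 1 T T'
      rw [det_one] at h2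
      split_ifs at h1 h2
      · linear_combination h1 + g.det * h2 + GF4.add_self g.det
      · linear_combination h1 + g.det * h2)
  simp only [mul_add, Finset.sum_add_distrib] at h
  have h3 : ∑ T, ∑ T', ex w T * ex w T' * (g.det * nf 1 T T') = g.det * qf w := by
    rw [qf_eq, ← one_mulVec (ex w), ← C3_one, ← nf_sum, C3_one, one_mulVec]
    simp only [Finset.mul_sum]
    exact Finset.sum_congr rfl fun _ _ => Finset.sum_congr rfl fun _ _ => by ring
  rw [h3, nf_sum] at h
  rw [qf_eq, a.ex_act]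
  simp only [Pi.smul_apply, smul_eq_mul]
  have h4 : ∑ i, g.det * (C3 g *ᵥ ex w) (lo i) * (g.det * (C3 g *ᵥ ex w) (lo i).rev) =
      g.det ^ 2 * ∑ i, (C3 g *ᵥ ex w) (lo i) * (C3 g *ᵥ ex w) (lo i).rev := by
    rw [Finset.mul_sum]
    exact Finset.sum_congr rfl fun _ _ => by ring
  rw [h4]
  linear_combination g.det ^ 2 * h + qf w * a.det - GF4.add_self (g.det ^ 3 * qf w)

theorem qf_map (σ : GF4 →+* GF4) (w : MM) : qf (σ ∘ w) = σ (qf w) := by
  simp only [qf, Function.comp, map_sum, map_mul, cj_comm]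

end Cfsg.Lib.U20
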