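import Mathlib

/-! Polynomial identities for the minors of order three of a matrix of order six. -/

set_option autoImplicit false

namespace Cfsg.Lib.U20

variable {R : Type*} [CommRing R]

/-- The minor of three vectors on the columns `a b c`. -/
def m3 (a b c : Fin 6) (x y z : Fin 6 → R) : R :=
  x a * (y b * z c - y c * z b) - x b * (y a * z c - y c * z a) + x c * (y a * z b - y b * z a)

/-- Dot product. -/
def dp (x u : Fin 6 → R) : R :=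
  x 0 * u 0 + x 1 * u 1 + x 2 * u 2 + x 3 * u 3 + x 4 * u 4 + x 5 * u 5

theorem dp_eq (x u : Fin 6 → R) : ∑ i, x i * u i = dp x u := by
  rw [Fin.sum_univ_six]; rfl

theorem cb (x y z u v w : Fin 6 → R) :
    dp x u * (dp y v * dp z w - dp y w * dp z v) - dp x v * (dp y u * dp z w - dp y w * dp z u) +
      dp x w * (dp y u * dp z v - dp y v * dp z u) =
      m3 0 1 2 x y z * m3 0 1 2 u v w +
      m3 0 1 3 x y z * m3 0 1 3 u v w +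
      m3 0 1 4 x y z * m3 0 1 4 u v w +
      m3 0 1 5 x y z * m3 0 1 5 u v w +
      m3 0 2 3 x y z * m3 0 2 3 u v w +
      m3 0 2 4 x y z * m3 0 2 4 u v w +
      m3 0 2 5 x y z * m3 0 2 5 u v w +
      m3 0 3 4 x y z * m3 0 3 4 u v w +
      m3 0 3 5 x y z * m3 0 3 5 u v w +
      m3 0 4 5 x y z * m3 0 4 5 u v w +
      m3 1 2 3 x y z * m3 1 2 3 u v w +
      m3 1 2 4 x y z * m3 1 2 4 u v w +
      m3 1 2 5 x y z * m3 1 2 5 u v w +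
      m3 1 3 4 x y z * m3 1 3 4 u v w +
      m3 1 3 5 x y z * m3 1 3 5 u v w +
      m3 1 4 5 x y z * m3 1 4 5 u v w +
      m3 2 3 4 x y z * m3 2 3 4 u v w +
      m3 2 3 5 x y z * m3 2 3 5 u v w +
      m3 2 4 5 x y z * m3 2 4 5 u v w +
      m3 3 4 5 x y z * m3 3 4 5 u v w := by
  simp only [m3, dp]; ring

theorem pl (x y z : Fin 6 → R) :
      m3 0 1 2 x y z * m3 3 4 5 x y z -
      m3 0 1 3 x y z * m3 2 4 5 x y z +
      m3 0 1 4 x y z * m3 2 3 5 x y z -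
      m3 0 1 5 x y z * m3 2 3 4 x y z +
      m3 0 2 3 x y z * m3 1 4 5 x y z -
      m3 0 2 4 x y z * m3 1 3 5 x y z +
      m3 0 2 5 x y z * m3 1 3 4 x y z +
      m3 0 3 4 x y z * m3 1 2 5 x y z -
      m3 0 3 5 x y z * m3 1 2 4 x y z +
      m3 0 4 5 x y z * m3 1 2 3 x y z = 0 := by
  simp only [m3]; ring

theorem det4 (A : Matrix (Fin 4) (Fin 4) R) : A.det =
    A 0 0 * (A 1 1 * (A 2 2 * A 3 3 - A 2 3 * A 3 2) - A 1 2 * (A 2 1 * A 3 3 - A 2 3 * A 3 1) +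
      A 1 3 * (A 2 1 * A 3 2 - A 2 2 * A 3 1)) -
    A 0 1 * (A 1 0 * (A 2 2 * A 3 3 - A 2 3 * A 3 2) - A 1 2 * (A 2 0 * A 3 3 - A 2 3 * A 3 0) +
      A 1 3 * (A 2 0 * A 3 2 - A 2 2 * A 3 0)) +
    A 0 2 * (A 1 0 * (A 2 1 * A 3 3 - A 2 3 * A 3 1) - A 1 1 * (A 2 0 * A 3 3 - A 2 3 * A 3 0) +
      A 1 3 * (A 2 0 * A 3 1 - A 2 1 * A 3 0)) -
    A 0 3 * (A 1 0 * (A 2 1 * A 3 2 - A 2 2 * A 3 1) - A 1 1 * (A 2 0 * A 3 2 - A 2 2 * A 3 0) +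
      A 1 2 * (A 2 0 * A 3 1 - A 2 1 * A 3 0)) := by
  rw [Matrix.det_succ_row_zero, Fin.sum_univ_four]
  simp only [Matrix.det_fin_three, Matrix.submatrix_apply]
  simp [Fin.succAbove]
  ring

/-- The determinant of order four on given rows and columns. -/
def d4 (a b c d : Fin 6) (w x y z : Fin 6 → R) : R :=
  w a * m3 b c d x y z - w b * m3 a c d x y z + w c * m3 a b d x y z - w d * m3 a b c x y z

/-- The determinant of order five on given rows and columns. -/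
def d5 (a b c d e : Fin 6) (v w x y z : Fin 6 → R) : R :=
  v a * d4 b c d e w x y z - v b * d4 a c d e w x y z + v c * d4 a b d e w x y z -
    v d * d4 a b c e w x y z + v e * d4 a b c d w x y z

theorem det4' (A : Matrix (Fin 6) (Fin 6) R) (r c : Fin 4 → Fin 6) : (A.submatrix r c).det =
    d4 (c 0) (c 1) (c 2) (c 3) (A (r 0)) (A (r 1)) (A (r 2)) (A (r 3)) := by
  rw [det4]; simp only [d4, m3, Matrix.submatrix_apply]

theorem det5' (A : Matrix (Fin 6) (Fin 6) R) (r c : Fin 5 → Fin 6) : (A.submatrix r c).det =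
    d5 (c 0) (c 1) (c 2) (c 3) (c 4) (A (r 0)) (A (r 1)) (A (r 2)) (A (r 3)) (A (r 4)) := by
  rw [Matrix.det_succ_row_zero, Fin.sum_univ_five]
  simp only [Matrix.submatrix_submatrix, det4', Matrix.submatrix_apply, Function.comp]
  simp [Fin.succAbove, d5]
  ring

theorem lp (A : Matrix (Fin 6) (Fin 6) R) : A.det =
      m3 0 1 2 (A 0) (A 1) (A 2) * m3 3 4 5 (A 3) (A 4) (A 5) -
      m3 0 1 3 (A 0) (A 1) (A 2) * m3 2 4 5 (A 3) (A 4) (A 5) +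
      m3 0 1 4 (A 0) (A 1) (A 2) * m3 2 3 5 (A 3) (A 4) (A 5) -
      m3 0 1 5 (A 0) (A 1) (A 2) * m3 2 3 4 (A 3) (A 4) (A 5) +
      m3 0 2 3 (A 0) (A 1) (A 2) * m3 1 4 5 (A 3) (A 4) (A 5) -
      m3 0 2 4 (A 0) (A 1) (A 2) * m3 1 3 5 (A 3) (A 4) (A 5) +
      m3 0 2 5 (A 0) (A 1) (A 2) * m3 1 3 4 (A 3) (A 4) (A 5) +
      m3 0 3 4 (A 0) (A 1) (A 2) * m3 1 2 5 (A 3) (A 4) (A 5) -
      m3 0 3 5 (A 0) (A 1) (A 2) * m3 1 2 4 (A 3) (A 4) (A 5) +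
      m3 0 4 5 (A 0) (A 1) (A 2) * m3 1 2 3 (A 3) (A 4) (A 5) -
      m3 1 2 3 (A 0) (A 1) (A 2) * m3 0 4 5 (A 3) (A 4) (A 5) +
      m3 1 2 4 (A 0) (A 1) (A 2) * m3 0 3 5 (A 3) (A 4) (A 5) -
      m3 1 2 5 (A 0) (A 1) (A 2) * m3 0 3 4 (A 3) (A 4) (A 5) -
      m3 1 3 4 (A 0) (A 1) (A 2) * m3 0 2 5 (A 3) (A 4) (A 5) +
      m3 1 3 5 (A 0) (A 1) (A 2) * m3 0 2 4 (A 3) (A 4) (A 5) -
      m3 1 4 5 (A 0) (A 1) (A 2) * m3 0 2 3 (A 3) (A 4) (A 5) +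
      m3 2 3 4 (A 0) (A 1) (A 2) * m3 0 1 5 (A 3) (A 4) (A 5) -
      m3 2 3 5 (A 0) (A 1) (A 2) * m3 0 1 4 (A 3) (A 4) (A 5) +
      m3 2 4 5 (A 0) (A 1) (A 2) * m3 0 1 3 (A 3) (A 4) (A 5) -
      m3 3 4 5 (A 0) (A 1) (A 2) * m3 0 1 2 (A 3) (A 4) (A 5) := by
  rw [Matrix.det_succ_row_zero, Fin.sum_univ_six]
  simp only [det5']
  simp [Fin.succAbove]
  simp only [d5, d4, m3]
  ring

end Cfsg.Lib.U20
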